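import Cfsg.Agent.Lib.Sp4Pair.Tensor

/-!
Overgroups of the isometries commuting or anticommuting with a skew map `J`, `J² = δ`, in dimension four:
an element either respects `J` on a plane or yields a transvection, and one transvection yields all.
-/

set_option autoImplicit false
set_option linter.unusedSectionVars false
set_option linter.unusedSimpArgs false

namespace CfsgLib.Sp4Pair

open Matrix CfsgLib.GeomClasses

variable {ι : Type} [Fintype ι] [DecidableEq ι] {F : Type*} [Field F] [Fintype F]

/-- A group containing the stabiliser of `± J`. -/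
structure Over (f : (ι → F) → (ι → F) → F) (J : (ι → F) →ₗ[F] (ι → F)) (δ : F) (H : Subgroup (GL ι F)) : Prop
    extends Skew f J δ where
  five : 5 ≤ Fintype.card F
  mem : ∀ (g : GL ι F) (ε : F), ε * ε = 1 → Symp.IsIsometry f g →
    (∀ z, (g : Matrix ι ι F) *ᵥ J z = ε • J ((g : Matrix ι ι F) *ᵥ z)) → g ∈ H

/-- A non-zero vector on a plane of a generator with a transvection of `H`. -/
def HasTv (f : (ι → F) → (ι → F) → F) (J : (ι → F) →ₗ[F] (ι → F)) (H : Subgroup (GL ι F)) : Prop :=
  ∃ q k, q ≠ 0 ∧ f q (J q) = 0 ∧ k ≠ 0 ∧ formTv f q k ∈ H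

variable {f : (ι → F) → (ι → F) → F} {J : (ι → F) →ₗ[F] (ι → F)} {δ : F} {H : Subgroup (GL ι F)}

theorem Skew.gen_comb (S : Skew f J δ) {x : ι → F} (hx : Gen f J x) {a b : F} (h : a * a - δ * b * b ≠ 0) :
    Gen f J (a • x + b • J x) := by
  refine ⟨?_, fun c d e => ?_⟩
  · rw [S.phi_add, S.phi_smul, S.phi_smul, S.phi_J, hx.1, map_smul, S.sq, Symp.smul_left S.symp,
      Symp.smul_right S.symp, Symp.smul_right S.symp, S.symp.alternating]
    ring
  · rw [map_add, map_smul, map_smul, S.sq] at e
    obtain ⟨e1, e2⟩ := hx.2 (c * a + d * δ * b) (c * b + d * a) (by rw [← e]; module)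
    exact ⟨(mul_eq_zero.1 (show c * (a * a - δ * b * b) = 0 by linear_combination a * e1 - δ * b * e2)).resolve_right h,
      (mul_eq_zero.1 (show d * (a * a - δ * b * b) = 0 by linear_combination a * e2 - b * e1)).resolve_right h⟩

theorem Skew.phi_comb (S : Skew f J δ) {x : ι → F} (hx : f x (J x) = 0) (a b : F) :
    f (a • x + b • J x) (J (a • x + b • J x)) = 0 := by
  rw [S.phi_add, S.phi_smul, S.phi_smul, S.phi_J, hx, map_smul, S.sq, Symp.smul_left S.symp,
    Symp.smul_right S.symp, Symp.smul_right S.symp, S.symp.alternating]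
  ring

theorem Skew.gen_J (S : Skew f J δ) {x : ι → F} (hx : Gen f J x) : Gen f J (J x) := by
  have h := S.gen_comb hx (a := 0) (b := 1) (by simpa using S.ne)
  rwa [zero_smul, zero_add, one_smul] at h

/-- A vector with `f(p, J p) = 0` lies on the plane of a generator. -/
theorem Skew.exists_plane (S : Skew f J δ) {p : ι → F} (hp : f p (J p) = 0) (hp0 : p ≠ 0) :
    ∃ (x : ι → F) (a b : F), Gen f J x ∧ p = a • x + b • J x := by
  have hf := S.symp
  by_cases hg : Gen f J p
  · exact ⟨p, 1, 0, hg, by module⟩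
  obtain ⟨a, b, hab, hne⟩ : ∃ a b : F, a • p + b • J p = 0 ∧ ¬ (a = 0 ∧ b = 0) := by
    by_contra hc
    push Not at hc
    exact hg ⟨hp, fun a b h => hc a b h⟩
  have hb : b ≠ 0 := fun h => hne ⟨(smul_eq_zero.1 (by simpa [h] using hab)).resolve_right hp0, h⟩
  set r := -(a / b) with hr
  have hJp : J p = r • p := by
    have h := congrArg (b⁻¹ • ·) hab
    rw [smul_zero, smul_add, smul_smul, smul_smul, inv_mul_cancel₀ hb, one_smul] at h
    rw [eq_neg_of_add_eq_zero_right h, hr, ← neg_smul, div_eq_inv_mul]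
  have hrr : r * r = δ := by
    have h := S.sq p
    rw [hJp, map_smul, hJp, smul_smul] at h
    exact sub_eq_zero.1 ((smul_eq_zero.1 (by rw [sub_smul, h, sub_self])).resolve_right hp0)
  have hr0 : r ≠ 0 := fun h => S.ne (by rw [← hrr, h, mul_zero])
  obtain ⟨z, hz, hzn⟩ : ∃ z, f p z = 0 ∧ J z ≠ r • z := by
    by_contra hc
    push Not at hc
    set W := Symp.perp hf (Submodule.span F {p}) with hW
    have hWz : ∀ z ∈ W, J z = r • z := fun z hz => hc z ((Symp.mem_perp hf).1 hz p (Submodule.mem_span_singleton_self p))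
    have hle : W ≤ Symp.perp hf W := fun z hz => (Symp.mem_perp hf).2 fun w hw => by
      have h := S.skew w z
      rw [hWz w hw, hWz z hz, Symp.smul_left hf, Symp.smul_right hf] at h
      have h2 : (2 * r) * f w z = 0 := by linear_combination h
      exact (mul_eq_zero.1 h2).resolve_left (mul_ne_zero S.two hr0)
    rw [hW, Symp.perp_perp hf, ← hW] at hle
    have h1 := Submodule.finrank_mono hle
    have h2 := Symp.finrank_perp hf (Submodule.span F {p})
    rw [finrank_span_singleton hp0] at h1 h2
    rw [S.card, ← hW] at h2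
    omega
  set v := J z - r • z with hv
  have hv0 : v ≠ 0 := sub_ne_zero.2 hzn
  have hJv : J v = -(r • v) := by
    rw [hv, map_sub, map_smul, S.sq, smul_sub, smul_smul, hrr]
    module
  have hpv : f p v = 0 := by
    rw [hv, Symp.sub_right hf, Symp.smul_right hf, hz]
    have h := S.skew p z
    rw [hJp, Symp.smul_left hf, hz] at h
    linear_combination h
  have hJ : J (p + v) = r • (p - v) := by rw [map_add, hJp, hJv]; module
  refine ⟨p + v, 1 / 2, 1 / (2 * r), ⟨?_, fun c d h => ?_⟩, ?_⟩
  · rw [hJ, Symp.smul_right hf, Symp.sub_right hf, Symp.add_left hf, Symp.add_left hf, hf.alternating, hf.alternating,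
      hpv, hf.skew v p, hpv]
    ring
  · rw [hJ] at h
    have h' := congrArg J h
    simp only [map_add, map_smul, map_sub, map_zero, hJp, hJv] at h'
    have e1 : (2 * r * (c + d * r)) • p = 0 := by linear_combination (norm := module) r • h + h'
    have e2 : (2 * r * (c - d * r)) • v = 0 := by linear_combination (norm := module) r • h - h'
    have n1 := (mul_eq_zero.1 ((smul_eq_zero.1 e1).resolve_right hp0)).resolve_left (mul_ne_zero S.two hr0)
    have n2 := (mul_eq_zero.1 ((smul_eq_zero.1 e2).resolve_right hv0)).resolve_left (mul_ne_zero S.two hr0)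
    have hd : 2 * r * d = 0 := by linear_combination n1 - n2
    have hd0 := (mul_eq_zero.1 hd).resolve_left (mul_ne_zero S.two hr0)
    exact ⟨by rw [hd0, zero_mul, add_zero] at n1; exact n1, hd0⟩
  · rw [hJ]
    match_scalars <;> field_simp [S.two] <;> ring

variable (T : Over f J δ H)
include T

theorem Over.exists_scalar : ∃ d : F, d ≠ 0 ∧ d * d ≠ 1 := by
  classical
  by_contra hc
  push Not at hc
  have hs : (Finset.univ : Finset F) ⊆ {0, 1, -1} := fun d _ => by
    by_cases h : d = 0
    · simp [h]
    · rcases mul_self_eq_one_iff.1 (hc d h) with e | e <;> simp [e]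
  have := (Finset.card_le_card hs).trans Finset.card_le_three
  rw [Finset.card_univ] at this
  have := T.five
  omega

theorem Over.exists_torus : ∃ c : F, c ≠ 0 ∧ c * c ≠ δ := by
  classical
  by_contra hc
  push Not at hc
  by_cases hs : ∃ r, r * r = δ
  · obtain ⟨r, hr⟩ := hs
    have hs : (Finset.univ : Finset F) ⊆ {0, r, -r} := fun d _ => by
      by_cases h : d = 0
      · simp [h]
      · rcases mul_self_eq_mul_self_iff.1 ((hc d h).trans hr.symm) with e | e <;> simp [e]
    have := (Finset.card_le_card hs).trans Finset.card_le_three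
    rw [Finset.card_univ] at this
    have := T.five
    omega
  · exact hs ⟨1, hc 1 one_ne_zero⟩

theorem Over.plane_mem {x : ι → F} (hx : Gen f J x) (t : F) : qt f x (J x) (t * δ) 0 (t * -1) ∈ H := by
  have hf := T.symp
  refine T.mem _ 1 (one_mul 1) ?_ fun z => ?_
  · rw [qt_diag hf hx.1]
    exact Symp.isometry_mul (Symp.formTv_isometry hf _ _) (Symp.formTv_isometry hf _ _)
  · rw [qt_mulVec hf hx.1, qt_mulVec hf hx.1, one_smul, T.f_JJ, T.skew z x]
    simp only [map_add, map_smul, T.sq]
    module

/-- The image plane of a generator under an element of `H`, when it lies in the plane of `x`. -/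
theorem Over.same_plane {x : ι → F} (hx : Gen f J x) {u v : ι → F} (hH : ∀ t : F, qt f u v (t * δ) 0 (t * -1) ∈ H)
    {a b c e : F} (hu : u = a • x + b • J x) (hv : v = c • x + e • J x) :
    HasTv f J H ∨ (δ * a * b = c * e ∧ δ * a * a - c * c + δ * (δ * b * b - e * e) = 0) := by
  have hf := T.symp
  set β := δ * a * b - c * e with hβ
  set γ := δ * b * b - e * e with hγ
  set w := (δ * a * a - c * c + δ * γ) / (2 * δ) with hw
  by_cases hz : β = 0 ∧ w = 0
  · refine Or.inr ⟨sub_eq_zero.1 hz.1, ?_⟩
    have h := hz.2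
    rw [hw, div_eq_zero_iff] at h
    exact h.resolve_right (mul_ne_zero T.two T.ne)
  left
  let Q : F → F → F → Prop := fun p q r => qt f x (J x) p q r ∈ H
  have hadd : ∀ {p q r p' q' r'}, Q p q r → Q p' q' r' → Q (p + p') (q + q') (r + r') := fun h h' => by
    have := H.mul_mem h h'
    rwa [qt_mul hf hx.1] at this
  have hN : ∀ t, Q (t * δ) 0 (t * -1) := T.plane_mem hx
  have hW : ∀ t : F, Q (t * (w * δ)) (t * β) (t * w) := fun t => by
    have h := hH t
    rw [qt_basis hf hx.1 a b c e hu hv] at h
    have h1 := hadd h (hN (-(t * (w - γ))))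
    show qt f x (J x) _ _ _ ∈ H
    convert h1 using 2 <;> simp only [hw, hγ, hβ] <;> field_simp [T.two, T.ne] <;> ring
  obtain ⟨k, hk, hk'⟩ := T.exists_torus
  obtain ⟨g, hgi, hgx, hgJ⟩ := T.exists_move hx (T.gen_comb hx (a := k) (b := 1) (by
    rw [mul_one, mul_one]; exact sub_ne_zero.2 hk')) (one_mul (1 : F))
  have hgH := T.mem g 1 (one_mul 1) hgi hgJ
  have hgJx : (g : Matrix ι ι F) *ᵥ J x = δ • x + k • J x := by
    rw [hgJ, hgx, map_add, map_smul, map_smul, T.sq]; module
  have hW' : ∀ t : F, Q (t * (δ * ((k * k + δ) * w + 2 * k * β))) (t * (2 * k * δ * w + (k * k + δ) * β))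
      (t * ((k * k + δ) * w + 2 * k * β)) := fun t => by
    have h := H.mul_mem (H.mul_mem hgH (hW t)) (H.inv_mem hgH)
    rw [qt_conj hf hgi, qt_basis hf hx.1 k 1 δ k hgx hgJx] at h
    show qt f x (J x) _ _ _ ∈ H
    convert h using 2 <;> ring
  by_cases hdet : δ * w * w - β * β = 0
  · have hw0 : w ≠ 0 := fun h => hz ⟨mul_self_eq_zero.1 (by rw [h] at hdet; linear_combination -hdet), h⟩
    set r := β / w with hr
    have hrr : r * r = δ := by rw [hr]; field_simp; linear_combination -hdet
    refine ⟨r • x + J x, 1, fun h0 => one_ne_zero (hx.2 r 1 (by rw [one_smul]; exact h0)).2, ?_, one_ne_zero, ?_⟩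
    · have h := T.phi_comb hx.1 r 1
      rwa [one_smul] at h
    · have h := hW w⁻¹
      have e : formTv f (r • x + J x) 1 = qt f x (J x) δ r 1 := by
        refine gl_ext fun z => ?_
        rw [Symp.formTv_mulVec hf, qt_mulVec hf hx.1, Symp.add_right hf, Symp.smul_right hf]
        match_scalars <;> first | ring1 | linear_combination (f z x) * hrr
      rw [e]
      show Q δ r 1
      convert h using 1 <;> (try simp only [hr]) <;> field_simp
  · have hdet' : w * (2 * k * δ * w + (k * k + δ) * β) - β * ((k * k + δ) * w + 2 * k * β) ≠ 0 := by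
      rw [show w * (2 * k * δ * w + (k * k + δ) * β) - β * ((k * k + δ) * w + 2 * k * β) =
        2 * k * (δ * w * w - β * β) by ring]
      exact mul_ne_zero (mul_ne_zero T.two hk) hdet
    set D := w * (2 * k * δ * w + (k * k + δ) * β) - β * ((k * k + δ) * w + 2 * k * β) with hD
    have h1 := hadd (hadd (hW ((2 * k * δ * w + (k * k + δ) * β) / D)) (hW' (-β / D))) (hN 1)
    refine ⟨x, 2 * δ, hx.ne_zero, hx.1, mul_ne_zero T.two T.ne, ?_⟩
    have e : formTv f x (2 * δ) = qt f x (J x) (2 * δ) 0 0 := by
      rw [qt_diag hf hx.1]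
      refine gl_ext fun z => ?_
      rw [gl_mul_mulVec]
      simp [Symp.formTv_mulVec hf]
    rw [e]
    show Q (2 * δ) 0 0
    convert h1 using 1 <;> field_simp <;> simp only [hD] <;> ring

/-- An element of `H` respects `J` on a plane whose image meets a plane, or yields a transvection. -/
theorem Over.dichotomy {g : GL ι F} (hg : g ∈ H) (hgi : Symp.IsIsometry f g) {y : ι → F} (hy : Gen f J y)
    {μ ν : F} (hp0 : μ ≠ 0 ∨ ν ≠ 0)
    (hp : f ((g : Matrix ι ι F) *ᵥ (μ • y + ν • J y)) (J ((g : Matrix ι ι F) *ᵥ (μ • y + ν • J y))) = 0) :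
    HasTv f J H ∨ ∃ ε : F, ε * ε = 1 ∧ (g : Matrix ι ι F) *ᵥ J y = ε • J ((g : Matrix ι ι F) *ᵥ y) := by
  have hf := T.symp
  set p := (g : Matrix ι ι F) *ᵥ (μ • y + ν • J y) with hpd
  have hp00 : p ≠ 0 := gl_mulVec_ne_zero g fun h => by
    obtain ⟨h1, h2⟩ := hy.2 μ ν h
    exact hp0.elim (· h1) (· h2)
  obtain ⟨x, s, t, hx, hps⟩ := T.exists_plane hp hp00
  set u := (g : Matrix ι ι F) *ᵥ y with hu
  set v := (g : Matrix ι ι F) *ᵥ J y with hv
  have huv : f u v = 0 := by rw [hu, hv, hgi, hy.1]
  have hB : ∀ t : F, qt f u v (t * δ) 0 (t * -1) ∈ H := fun t => by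
    rw [hu, hv, ← qt_conj hf hgi]
    exact H.mul_mem (H.mul_mem hg (T.plane_mem hy t)) (H.inv_mem hg)
  by_cases hne : f x u = 0 ∧ f x v = 0 ∧ f (J x) u = 0 ∧ f (J x) v = 0
  · obtain ⟨n1, n2, n3, n4⟩ := hne
    obtain ⟨w, P⟩ := hx.exists_frame T.toSkew
    have inPlane : ∀ z, f x z = 0 → f (J x) z = 0 → z = f z (J w) • x + (-f z w) • J x := fun z h1 h2 => by
      conv_lhs => rw [P.coords T.toSkew z]
      rw [hf.skew z x, hf.skew z (J x), h1, h2]
      module
    have eu := inPlane u n1 n3
    have ev := inPlane v n2 n4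
    set a := f u (J w)
    set b := -f u w
    set c := f v (J w)
    set e := -f v w
    refine (T.same_plane hx hB eu ev).imp id fun h => ?_
    obtain ⟨h1, h2⟩ := h
    have hind : ∀ i j : F, i • u + j • v = 0 → i = 0 ∧ j = 0 := fun i j h => by
      rw [hu, hv, ← mulVec_smul, ← mulVec_smul, ← mulVec_add] at h
      exact hy.2 i j (gl_mulVec_injective g (show (g : Matrix ι ι F) *ᵥ _ = (g : Matrix ι ι F) *ᵥ 0 by
        rw [h, mulVec_zero]))
    have hdet : a * e - b * c ≠ 0 := by
      intro hd
      by_cases ha : a = 0 ∧ b = 0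
      · exact one_ne_zero (hind 1 0 (by rw [eu, ha.1, ha.2]; module)).1
      rcases not_and_or.1 ha with ha | hb
      · refine ha ?_
        have := (hind (-c) a (by rw [eu, ev]; linear_combination (norm := module) congrArg (fun i : F => i • J x) hd))
        exact this.2
      · refine hb ?_
        have := (hind (-e) b (by rw [eu, ev]; linear_combination (norm := module) -congrArg (fun i : F => i • x) hd))
        exact this.2
    have hk : (c * c - δ * δ * b * b) * (c * c - δ * a * a) = 0 := by
      linear_combination (-(c * c)) * h2 + δ * (δ * a * b + c * e) * h1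
    have fin : ∀ ε : F, ε * ε = 1 → c = ε * δ * b → e = ε * a →
        ∃ ε : F, ε * ε = 1 ∧ v = ε • J u := fun ε hε hc he => ⟨ε, hε, by
      rw [ev, hc, he, eu, map_add, map_smul, map_smul, T.sq]; module⟩
    rcases mul_eq_zero.1 hk with hk | hk
    · have hc2 : c * c = (δ * b) * (δ * b) := by linear_combination hk
      rcases mul_self_eq_mul_self_iff.1 hc2 with hc | hc
      · by_cases hb : b = 0
        · rw [hb, mul_zero] at hc
          have he2 : e * e = a * a := by
            have h3 : δ * (a * a - e * e) = 0 := by rw [hb, hc] at h2; linear_combination h2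
            exact (sub_eq_zero.1 ((mul_eq_zero.1 h3).resolve_left T.ne)).symm
          rcases mul_self_eq_mul_self_iff.1 he2 with he | he
          · exact fin 1 (one_mul 1) (by rw [hc, hb]; ring) (by rw [he, one_mul])
          · exact fin (-1) (by ring) (by rw [hc, hb]; ring) (by rw [he]; ring)
        · refine fin 1 (one_mul 1) (by rw [hc, one_mul]) ?_
          rw [hc] at h1
          exact mul_left_cancel₀ (mul_ne_zero T.ne hb) (by linear_combination -h1)
      · by_cases hb : b = 0
        · rw [hb, mul_zero, neg_zero] at hc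
          have he2 : e * e = a * a := by
            have h3 : δ * (a * a - e * e) = 0 := by rw [hb, hc] at h2; linear_combination h2
            exact (sub_eq_zero.1 ((mul_eq_zero.1 h3).resolve_left T.ne)).symm
          rcases mul_self_eq_mul_self_iff.1 he2 with he | he
          · exact fin 1 (one_mul 1) (by rw [hc, hb]; ring) (by rw [he, one_mul])
          · exact fin (-1) (by ring) (by rw [hc, hb]; ring) (by rw [he]; ring)
        · refine fin (-1) (by ring) (by rw [hc]; ring) ?_
          rw [hc] at h1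
          exact mul_left_cancel₀ (mul_ne_zero T.ne hb) (by linear_combination h1)
    · exfalso
      apply hdet
      have hsq : (a * e - b * c) * c * c = 0 := by linear_combination (-(a * c)) * h1 - (b * c) * hk
      rcases mul_eq_zero.1 hsq with h | h
      · rcases mul_eq_zero.1 h with h | h
        · exact h
        · exfalso
          rw [h] at hk
          have ha : a = 0 := mul_self_eq_zero.1 ((mul_eq_zero.1 (show δ * (a * a) = 0 by linear_combination -hk)).resolve_left T.ne)
          exact hdet (by rw [h, ha]; ring)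
      · exfalso
        rw [h] at hk
        have ha : a = 0 := mul_self_eq_zero.1 ((mul_eq_zero.1 (show δ * (a * a) = 0 by linear_combination -hk)).resolve_left T.ne)
        exact hdet (by rw [h, ha]; ring)
  · obtain ⟨d, hd, hd1⟩ := T.exists_scalar
    have hpb : p = μ • u + ν • v := by rw [hpd, hu, hv, mulVec_add, mulVec_smul, mulVec_smul]
    obtain ⟨k, hk, hkH⟩ := meet_pairs hf T.two hd hd1 hx.1 huv (show δ * -1 ≠ 0 by simpa using T.ne)
      (show δ * -1 ≠ 0 by simpa using T.ne) (T.plane_mem hx) hB hp00 hps hpb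
      (fun h => hne ⟨h.1, h.2.1, h.2.2.1, h.2.2.2⟩)
    exact Or.inl ⟨p, k, hp00, hp, hk, hkH⟩

/-- One transvection gives all of them. -/
theorem Over.all_of_hasTv (h : HasTv f J H) (v : ι → F) (c : F) : formTv f v c ∈ H := by
  have hf := T.symp
  obtain ⟨q, k, hq0, hq, hk, hqH⟩ := h
  obtain ⟨x, k, hx, hk, hxH⟩ : ∃ x k, Gen f J x ∧ k ≠ 0 ∧ formTv f x k ∈ H := by
    obtain ⟨x, a, b, hx, hqx⟩ := T.exists_plane hq hq0
    by_cases hd : a * a - δ * b * b = 0
    · have hb : b ≠ 0 := fun h => hq0 (by
        have ha : a = 0 := mul_self_eq_zero.1 (by rw [h] at hd; linear_combination hd)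
        rw [hqx, h, ha]; module)
      obtain ⟨g, hgi, hgx, hgJ⟩ := T.exists_move hx hx (neg_mul_neg (1 : F) 1 |>.trans (one_mul 1))
      have hgH := T.mem g (-1) (neg_mul_neg (1 : F) 1 |>.trans (one_mul 1)) hgi hgJ
      have h2 := H.mul_mem (H.mul_mem hgH hqH) (H.inv_mem hgH)
      rw [Symp.conj_formTv hf hgi, hqx, mulVec_add, mulVec_smul, mulVec_smul, hgJ, hgx] at h2
      rw [hqx] at hqH
      refine ⟨x, 4 * k * δ * b * b, hx, ?_, ?_⟩
      · rw [show (4 : F) = 2 * 2 by norm_num]
        exact mul_ne_zero (mul_ne_zero (mul_ne_zero (mul_ne_zero (mul_ne_zero T.two T.two) hk) T.ne) hb) hb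
      · convert H.mul_mem (H.mul_mem hqH h2) (T.plane_mem hx (2 * k * b * b)) using 1
        refine gl_ext fun z => ?_
        simp only [gl_mul_mulVec, Symp.formTv_mulVec hf, qt_mulVec hf hx.1, Symp.add_left hf, Symp.add_right hf,
          Symp.smul_left hf, Symp.smul_right hf, hf.alternating, hx.1,
          show f (J x) x = 0 by rw [hf.skew, hx.1, neg_zero]]
        match_scalars <;> first | ring1 | linear_combination (-2 * k * f z x) * hd
    · exact ⟨q, k, hqx ▸ T.gen_comb hx hd, hk, hqH⟩
  have hscal : ∀ e : F, formTv f x e ∈ H := fun e => by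
    have hsq : ∀ a : F, formTv f x (a * a * k) ∈ H := fun a => by
      by_cases ha : a = 0
      · rw [ha, zero_mul, zero_mul]
        convert H.one_mem using 1
        exact gl_ext fun z => by simp [Symp.formTv_mulVec hf]
      have hy : Gen f J (a • x) := by
        have := T.gen_comb hx (a := a) (b := 0) (by simpa using mul_ne_zero ha ha)
        rwa [zero_smul, add_zero] at this
      obtain ⟨g, hgi, hgx, hgJ⟩ := T.exists_move hx hy (one_mul (1 : F))
      have := H.mul_mem (H.mul_mem (T.mem g 1 (one_mul 1) hgi hgJ) hxH) (H.inv_mem (T.mem g 1 (one_mul 1) hgi hgJ))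
      rwa [Symp.conj_formTv hf hgi, hgx, Symp.formTv_smul hf] at this
    have h1 := H.mul_mem (hsq ((e / k + 1) / 2)) (H.inv_mem (hsq ((e / k - 1) / 2)))
    rw [Symp.formTv_inv hf, Symp.formTv_mul hf] at h1
    convert h1 using 2
    field_simp [T.two]
    ring
  have hgen : ∀ y, Gen f J y → y ∈ Symp.centres f H := fun y hy => by
    obtain ⟨g, hgi, hgx, hgJ⟩ := T.exists_move hx hy (one_mul (1 : F))
    rw [← hgx]
    exact Symp.centres_invariant hf (T.mem g 1 (one_mul 1) hgi hgJ) hgi hscal
  have hiso : ∀ p, f p (J p) = 0 → p ∈ Symp.centres f H := fun p hp => by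
    by_cases hp0 : p = 0
    · intro e
      rw [hp0]
      convert H.one_mem using 1
      exact gl_ext fun z => by simp [Symp.formTv_mulVec hf]
    obtain ⟨y, a, b, hy, hpy⟩ := T.exists_plane hp hp0
    obtain ⟨t, ht, ht'⟩ := T.exists_torus
    have hty : Gen f J (t • y + J y) := by
      have := T.gen_comb hy (a := t) (b := 1) (by rw [mul_one, mul_one]; exact sub_ne_zero.2 ht')
      rwa [one_smul] at this
    intro e
    convert H.mul_mem (H.mul_mem (hgen y hy (e * (a * a - a * b * t))) (hgen _ (T.gen_J hy) (e * (b * b - a * b / t))))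
      (hgen _ hty (e * (a * b / t))) using 1
    refine gl_ext fun z => ?_
    simp only [hpy, gl_mul_mulVec, Symp.formTv_mulVec hf, Symp.add_left hf, Symp.add_right hf,
      Symp.smul_left hf, Symp.smul_right hf, hf.alternating, hy.1,
      show f (J y) y = 0 by rw [hf.skew, hy.1, neg_zero]]
    match_scalars <;> field_simp <;> ring
  suffices hall : v ∈ Symp.centres f H from hall c
  by_cases hφ : f v (J v) = 0
  · exact hiso v hφ
  obtain ⟨w, P⟩ := hx.exists_frame T.toSkew
  obtain ⟨u, hu, h1, h2⟩ : ∃ u, f u (J u) = 0 ∧ f v u ≠ 0 ∧ f v (J u) ≠ 0 := by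
    have hnot : ¬ (f v x = 0 ∧ f v (J x) = 0) := fun h => hφ (by
      rw [P.coords T.toSkew v, h.1, h.2]
      simp only [neg_zero, zero_smul, add_zero]
      exact T.phi_comb hx.1 _ _)
    by_cases h1 : f v x = 0
    · have h2 : f v (J x) ≠ 0 := fun h => hnot ⟨h1, h⟩
      refine ⟨x + J x, ?_, ?_, ?_⟩
      · have := T.phi_comb hx.1 1 1; rwa [one_smul, one_smul] at this
      · rwa [Symp.add_right hf, h1, zero_add]
      · rwa [map_add, T.sq, Symp.add_right hf, Symp.smul_right hf, h1, mul_zero, add_zero]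
    · by_cases h2 : f v (J x) = 0
      · refine ⟨x + J x, ?_, ?_, ?_⟩
        · have := T.phi_comb hx.1 1 1; rwa [one_smul, one_smul] at this
        · rwa [Symp.add_right hf, h2, add_zero]
        · rw [map_add, T.sq, Symp.add_right hf, Symp.smul_right hf, h2, zero_add]
          exact mul_ne_zero T.ne h1
      · exact ⟨x, hx.1, h1, h2⟩
  set m := f v (J v) / (2 * f v (J u)) with hm
  have hv2 : f (v - m • u) (J (v - m • u)) = 0 := by
    rw [sub_eq_add_neg, ← neg_smul, T.phi_add, T.phi_smul, hu, map_smul, Symp.smul_right hf, hm]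
    field_simp [T.two]
    ring
  have := Symp.centres_step hf (hiso _ hv2) (hiso u hu) (by
    rwa [Symp.sub_left hf, Symp.smul_left hf, hf.alternating, mul_zero, sub_zero]) m
  rwa [sub_add_cancel] at this

end CfsgLib.Sp4Pair
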