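import Cfsg.Prelude.Def_GeometricClasses
import Cfsg.Agent.Lib.Sp4Pair.Plane

/-!
The stabiliser of `± J` is maximal in the four dimensional symplectic group, `J² = δ ≠ 0`, `q ≥ 5`.
-/

set_option autoImplicit false
set_option linter.unusedSectionVars false
set_option linter.unusedSimpArgs false

namespace CfsgLib.Sp4Pair

open Matrix CfsgLib.GeomClasses

variable {ι : Type} [Fintype ι] [DecidableEq ι] {F : Type*} [Field F] [Fintype F]
  {f : (ι → F) → (ι → F) → F} {J : (ι → F) →ₗ[F] (ι → F)} {δ : F} {H : Subgroup (GL ι F)}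

/-- An element of the symplectic group moves `± J` only if it moves it on some plane. -/
theorem Skew.respects (S : Skew f J δ) {x : ι → F} (hx : Gen f J x) {g : GL ι F}
    (h : ∀ y, Gen f J y → ∃ ε : F, ε * ε = 1 ∧ (g : Matrix ι ι F) *ᵥ J y = ε • J ((g : Matrix ι ι F) *ᵥ y)) :
    ∃ ε : F, ε * ε = 1 ∧ ∀ z, (g : Matrix ι ι F) *ᵥ J z = ε • J ((g : Matrix ι ι F) *ᵥ z) := by
  obtain ⟨w, P⟩ := hx.exists_frame S
  let K : (ι → F) →ₗ[F] (ι → F) :=
    Matrix.toLin' ((g⁻¹ : GL ι F) : Matrix ι ι F) ∘ₗ J ∘ₗ Matrix.toLin' (g : Matrix ι ι F)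
  have hKv : ∀ z, K z = ((g⁻¹ : GL ι F) : Matrix ι ι F) *ᵥ J ((g : Matrix ι ι F) *ᵥ z) := fun z => by simp [K]
  have hK : ∀ y, Gen f J y → ∃ ε : F, ε * ε = 1 ∧ K y = ε • J y := fun y hy => by
    obtain ⟨ε, hε, he⟩ := h y hy
    refine ⟨ε, hε, ?_⟩
    have h1 := congrArg (fun v => ε • (((g⁻¹ : GL ι F) : Matrix ι ι F) *ᵥ v)) he
    simp only [gl_inv_mulVec_mulVec, mulVec_smul, smul_smul, hε, one_smul] at h1
    rw [hKv, h1]
  have hKK : ∀ z, K (K z) = δ • z := fun z => by
    rw [hKv, hKv, gl_mulVec_inv_mulVec, S.sq, mulVec_smul, gl_inv_mulVec_mulVec]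
  obtain ⟨ε, hε, hex⟩ := hK x hx
  obtain ⟨η, hη, hew⟩ := hK w (P.gen_snd S)
  have hε0 : ε ≠ 0 := fun e => one_ne_zero (α := F) (by rw [← hε, e, mul_zero])
  have hη0 : η ≠ 0 := fun e => one_ne_zero (α := F) (by rw [← hη, e, mul_zero])
  have hJ : ∀ (y : ι → F) (ε : F), ε * ε = 1 → ε ≠ 0 → K y = ε • J y → K (J y) = (ε * δ) • y :=
    fun y ε hε hε0 he => by
      have h1 := hKK y
      rw [he, map_smul] at h1
      have h2 := congrArg (ε • ·) h1
      simpa [smul_smul, hε] using h2
  have hKJx := hJ x ε hε hε0 hex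
  have hKJw := hJ w η hη hη0 hew
  have hy : Gen f J (x + J w) := by
    refine ⟨?_, fun a b e => ?_⟩
    · rw [S.phi_add, P.gen.1, S.phi_J, P.iso, S.sq, Symp.smul_right S.symp, P.orth]; ring
    · rw [map_add, S.sq] at e
      have e1 := congrArg (f · (J w)) e
      have e2 := congrArg (f · w) e
      simp only [Symp.add_left S.symp, Symp.smul_left S.symp, P.pair, P.f_JxJw S, S.symp.alternating, P.iso,
        P.f_Jxw S, P.orth, P.f_Jww S, Symp.zero_left S.symp] at e1 e2
      exact ⟨by linear_combination e1, by linear_combination -e2⟩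
  obtain ⟨τ, -, het⟩ := hK _ hy
  rw [map_add, map_add, hex, hKJw, S.sq] at het
  have e1 := congrArg (f · w) het
  have e2 := congrArg (f · (J x)) het
  simp only [Symp.add_left S.symp, Symp.smul_left S.symp, P.f_Jxw S, S.symp.alternating, P.f_wJx S] at e1 e2
  have hετ : τ = ε := by linear_combination e1
  have hηε : η = ε := by
    have h1 : (η - τ) * δ = 0 := by linear_combination e2
    rw [← hετ]
    exact sub_eq_zero.1 ((mul_eq_zero.1 h1).resolve_right S.ne)
  subst hηε
  refine ⟨η, hε, fun z => ?_⟩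
  have hz : K z = η • J z := by
    rw [P.coords S z]
    simp only [map_add, map_smul, hex, hew, hKJx, hKJw, S.sq]
    module
  rw [hKv] at hz
  have h1 := congrArg (fun v => η • ((g : Matrix ι ι F) *ᵥ v)) hz
  simp only [gl_mulVec_inv_mulVec, mulVec_smul, smul_smul, hε, one_smul] at h1
  exact h1.symm

/-- Three values of a quadratic determine it. -/
theorem quadratic_zero (h2 : (2 : F) ≠ 0) {a b c : F} (h : ∀ t : F, a + b * t + c * t * t = 0) :
    a = 0 ∧ b = 0 ∧ c = 0 := by
  have h0 := h 0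
  have h1 := h 1
  have h3 := h (-1)
  have ha : a = 0 := by linear_combination h0
  subst ha
  have hb : 2 * b = 0 := by linear_combination h1 - h3
  have hc : 2 * c = 0 := by linear_combination h1 + h3
  exact ⟨rfl, (mul_eq_zero.1 hb).resolve_left h2, (mul_eq_zero.1 hc).resolve_left h2⟩

/-- A quadratic which is not identically zero has at most two roots. -/
theorem quadratic_roots {a b c : F} (h : ¬ ∀ t : F, a + b * t + c * t * t = 0) :
    ∃ R : Finset F, R.card ≤ 2 ∧ ∀ t : F, a + b * t + c * t * t = 0 → t ∈ R := by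
  classical
  by_cases hc : c = 0
  · by_cases hb : b = 0
    · refine ⟨∅, by simp, fun t ht => absurd (fun s => ?_) h⟩
      rw [hb, hc] at ht ⊢
      linear_combination ht
    · refine ⟨{-a / b}, by simp, fun t ht => ?_⟩
      rw [Finset.mem_singleton, eq_div_iff hb]
      rw [hc] at ht
      linear_combination ht
  · by_cases hr : ∃ r, a + b * r + c * r * r = 0
    · obtain ⟨r, hr⟩ := hr
      refine ⟨{r, -r - b / c}, Finset.card_le_two, fun t ht => ?_⟩
      have h0 : (t - r) * (b + c * (t + r)) = 0 := by linear_combination ht - hr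
      rcases mul_eq_zero.1 h0 with h1 | h1
      · simp [sub_eq_zero.1 h1]
      · refine Finset.mem_insert_of_mem (Finset.mem_singleton.2 ?_)
        field_simp
        linear_combination h1
    · exact ⟨∅, by simp, fun t ht => absurd ⟨t, ht⟩ hr⟩

/-- A plane image without a vector `f(p, J p) = 0` yields a transvection. -/
theorem Over.hasTv_of_anisotropic (T : Over f J δ H) {x w : ι → F} (P : Frame f J x w) {g : GL ι F} (hg : g ∈ H)
    (hgi : Symp.IsIsometry f g) {y : ι → F} (hy : Gen f J y)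
    (haniso : ∀ μ ν : F, μ ≠ 0 ∨ ν ≠ 0 →
      f ((g : Matrix ι ι F) *ᵥ (μ • y + ν • J y)) (J ((g : Matrix ι ι F) *ᵥ (μ • y + ν • J y))) ≠ 0) :
    HasTv f J H := by
  classical
  by_contra hno
  have hf := T.symp
  set u := (g : Matrix ι ι F) *ᵥ y with hu
  set v := (g : Matrix ι ι F) *ᵥ J y with hv
  have huv : f u v = 0 := by rw [hu, hv, hgi, hy.1]
  have hvu : f v u = 0 := by rw [hf.skew, huv, neg_zero]
  have hB : ∀ t : F, qt f u v (t * δ) 0 (t * -1) ∈ H := fun t => by
    rw [hu, hv, ← qt_conj hf hgi]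
    exact H.mul_mem (H.mul_mem hg (T.plane_mem hy t)) (H.inv_mem hg)
  let N : (ι → F) →ₗ[F] (ι → F) :=
    ((Symp.bil hf).flip u).smulRight (δ • u) - ((Symp.bil hf).flip v).smulRight v
  have hN : ∀ z, N z = (δ * f z u) • u - f z v • v := fun z => by
    simp only [N, LinearMap.sub_apply, LinearMap.smulRight_apply, LinearMap.flip_apply,
      LinearMap.BilinForm.flip_apply, Symp.bil_apply]
    module
  have hNN : ∀ z, N (N z) = 0 := fun z => by
    rw [hN z, map_sub, map_smul, map_smul, hN u, hN v]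
    simp [hf.alternating, huv, hvu]
  have hNadj : ∀ a b, f (N a) b = -f a (N b) := fun a b => by
    rw [hN, hN, Symp.sub_left hf, Symp.sub_right hf, Symp.smul_left hf, Symp.smul_left hf, Symp.smul_right hf,
      Symp.smul_right hf, hf.skew u b, hf.skew v b]
    ring
  have hker : ∀ z, f z u = 0 → f z v = 0 → ∃ μ ν : F, z = (g : Matrix ι ι F) *ᵥ (μ • y + ν • J y) := by
    intro z h1 h2
    obtain ⟨w', Q⟩ := hy.exists_frame T.toSkew
    obtain ⟨z₀, rfl⟩ : ∃ z₀, z = (g : Matrix ι ι F) *ᵥ z₀ :=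
      ⟨((g⁻¹ : GL ι F) : Matrix ι ι F) *ᵥ z, (gl_mulVec_inv_mulVec g z).symm⟩
    rw [hu, hgi] at h1
    rw [hv, hgi] at h2
    refine ⟨f z₀ (J w'), -f z₀ w', congrArg _ ?_⟩
    conv_lhs => rw [Q.coords T.toSkew z₀]
    rw [h1, h2]
    module
  have hNphi : ∀ z, z ≠ 0 → f z (J z) = 0 → f (N z) (J (N z)) ≠ 0 := by
    intro z hz0 hz
    have hne : f z u ≠ 0 ∨ f z v ≠ 0 := by
      by_contra hc
      push Not at hc
      obtain ⟨μ, ν, e⟩ := hker z hc.1 hc.2
      by_cases hμν : μ ≠ 0 ∨ ν ≠ 0
      · exact haniso μ ν hμν (by rw [← e]; exact hz)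
      · push Not at hμν
        exact hz0 (by rw [e, hμν.1, hμν.2]; simp)
    have e : N z = (g : Matrix ι ι F) *ᵥ ((δ * f z u) • y + (-f z v) • J y) := by
      rw [hN, mulVec_add, mulVec_smul, mulVec_smul, ← hu, ← hv]; module
    rw [e]
    refine haniso _ _ (hne.imp (fun h => mul_ne_zero T.ne h) neg_ne_zero.2)
  have hLinv : ∀ μ ν : F, J u = μ • u + ν • v → False := fun μ ν e => by
    refine haniso 1 0 (Or.inl one_ne_zero) ?_
    rw [one_smul, zero_smul, add_zero, ← hu, e, Symp.add_right hf, Symp.smul_right hf, Symp.smul_right hf,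
      hf.alternating, huv]
    ring
  have hJu : N (J u) ≠ 0 := fun e => by
    have hne : ¬ (f (J u) u = 0 ∧ f (J u) v = 0) := fun hc => by
      obtain ⟨μ, ν, e⟩ := hker (J u) hc.1 hc.2
      exact hLinv μ ν (by rw [e, mulVec_add, mulVec_smul, mulVec_smul, ← hu, ← hv])
    rw [hN] at e
    have e' : (g : Matrix ι ι F) *ᵥ ((δ * f (J u) u) • y + (-f (J u) v) • J y) = (g : Matrix ι ι F) *ᵥ 0 := by
      rw [mulVec_add, mulVec_smul, mulVec_smul, ← hu, ← hv, mulVec_zero, ← e]; module
    obtain ⟨e1, e2⟩ := hy.2 _ _ (gl_mulVec_injective g e')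
    exact hne ⟨(mul_eq_zero.1 e1).resolve_left T.ne, neg_eq_zero.1 e2⟩
  have hNu : N u = 0 := by simp [hN, hf.alternating, huv]
  let C : (ι → F) →ₗ[F] (ι → F) := J ∘ₗ N - N ∘ₗ J
  let D : (ι → F) →ₗ[F] (ι → F) := J ∘ₗ N + N ∘ₗ J
  have hC : ∀ z, C z = J (N z) - N (J z) := fun z => rfl
  have hD : ∀ z, D z = J (N z) + N (J z) := fun z => rfl
  have hDdiag : ∀ z, f z (D z) = 0 := fun z => by
    have h : f z (N (J z)) = -f z (J (N z)) := by
      rw [← neg_eq_iff_eq_neg.2 (hNadj z (J z)), T.symm (N z) z]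
    rw [hD, Symp.add_right hf, h, add_neg_cancel]
  have hDself : ∀ a b, f (D a) b = f a (D b) := fun a b => by
    rw [hD, hD, Symp.add_left hf, Symp.add_right hf, T.skew, hNadj, hNadj, T.skew, neg_neg, neg_neg, add_comm]
  have hDJ : ∀ z, D (J z) = J (D z) := fun z => by
    rw [hD, hD, map_add, T.sq, T.sq, map_smul]; abel
  have hCJ : ∀ z, C (J z) = -J (C z) := fun z => by
    rw [hC, hC, map_sub, T.sq, T.sq, map_smul]; abel
  have hCsym : ∀ a b, f a (C b) = f b (C a) := fun a b => by
    rw [hf.skew b, hC, hC, Symp.sub_left hf, Symp.sub_right hf, T.skew, hNadj, hNadj, T.skew]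
    ring
  -- at every parameter, one of three quadratics vanishes
  have key : ∀ t : F, (f (x + t • J w) (C (x + t • J w)) = 0 ∧ f (x + t • J w) (C (J (x + t • J w))) = 0) ∨
      (f (J (x + t • J w)) (D (x + t • J w)) = 0 ∧ f (D x) (J w) = 0) := by
    intro t
    set z := x + t • J w with hz
    clear_value z
    have hzg : Gen f J z := by
      refine ⟨?_, fun a b e => ?_⟩
      · rw [hz, T.phi_add, T.phi_smul, P.gen.1, T.phi_J, P.iso, map_smul, T.sq, Symp.smul_right hf,
          Symp.smul_right hf, P.orth]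
        ring
      · rw [hz, map_add, map_smul, T.sq] at e
        have e1 := congrArg (f · (J w)) e
        have e2 := congrArg (f · w) e
        simp only [Symp.add_left hf, Symp.smul_left hf, P.pair, P.f_JxJw T.toSkew, hf.alternating, P.iso,
          P.f_Jxw T.toSkew, P.orth, P.f_Jww T.toSkew, Symp.zero_left hf] at e1 e2
        exact ⟨by linear_combination e1, by linear_combination -e2⟩
    by_contra hc
    rw [not_or] at hc
    obtain ⟨hc1, hc2⟩ := hc
    -- a vector of the plane with nonzero `f(p, C p)`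
    obtain ⟨a, b, hab⟩ : ∃ a b : F, f (a • z + b • J z) (C (a • z + b • J z)) ≠ 0 := by
      by_contra hc
      push Not at hc
      have h1 := hc 1 0
      have h2 := hc 1 1
      have h3 := hc 0 1
      simp only [one_smul, zero_smul, add_zero, zero_add, map_add, Symp.add_left hf, Symp.add_right hf] at h1 h2 h3
      refine hc1 ⟨h1, ?_⟩
      have h4 : 2 * f z (C (J z)) = 0 := by linear_combination h2 - h1 - h3 + hCsym z (J z)
      exact (mul_eq_zero.1 h4).resolve_left T.two
    set p := a • z + b • J z with hp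
    have hpφ : f p (J p) = 0 := T.phi_comb hzg.1 a b
    have hp0 : p ≠ 0 := fun e => hab (by rw [e, Symp.zero_left hf])
    have hab0 : a ≠ 0 ∨ b ≠ 0 := by
      by_contra hc
      push Not at hc
      exact hp0 (by rw [hp, hc.1, hc.2]; module)
    have hα : f p (C p) = 2 * f p (J (N p)) := by
      have h := hDdiag p
      rw [hD, Symp.add_right hf] at h
      rw [hC, Symp.sub_right hf]
      linear_combination -h
    have hβ := hNphi p hp0 hpφ
    have hα0 : f p (J (N p)) ≠ 0 := fun e => hab (by rw [hα, e, mul_zero])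
    set s := -(2 * f p (J (N p))) / f (N p) (J (N p)) with hs
    have hs0 : s ≠ 0 := div_ne_zero (neg_ne_zero.2 (mul_ne_zero T.two hα0)) hβ
    set k := qt f u v (s * δ) 0 (s * -1) with hk
    have hkv : ∀ e, (k : Matrix ι ι F) *ᵥ e = e + s • N e := fun e => by
      rw [hk, qt_mulVec hf huv, hN]; module
    have hki : Symp.IsIsometry f k := by
      rw [hk, qt_diag hf huv]
      exact Symp.isometry_mul (Symp.formTv_isometry hf _ _) (Symp.formTv_isometry hf _ _)
    obtain ⟨ε, hε, he⟩ := (T.dichotomy (hB s) hki hzg hab0 (by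
      rw [hkv, T.phi_add, T.phi_smul, hpφ, map_smul, Symp.smul_right hf, hs]
      field_simp
      ring)).resolve_left hno
    rw [hkv, hkv, map_add, map_smul] at he
    rcases mul_self_eq_one_iff.1 hε with rfl | rfl
    · have e0 : C z = 0 := by
        have : s • C z = 0 := by rw [hC]; linear_combination (norm := module) -he
        exact (smul_eq_zero.1 this).resolve_left hs0
      exact hc1 ⟨by rw [e0, Symp.zero_right hf], by rw [hCJ, e0, map_zero, neg_zero, Symp.zero_right hf]⟩
    · have e0 : D z = (-(2 / s)) • J z := by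
        have h1 : s • D z = (-2 : F) • J z := by rw [hD]; linear_combination (norm := module) he
        have h2 := congrArg (s⁻¹ • ·) h1
        simp only [smul_smul, inv_mul_cancel₀ hs0, one_smul] at h2
        rw [h2]; congr 1; ring
      refine hc2 ⟨by rw [e0, Symp.smul_right hf, hf.alternating, mul_zero], ?_⟩
      have h1 := congrArg (f · (J w)) e0
      simp only [hz, map_add, map_smul, T.sq, Symp.add_left hf, Symp.smul_left hf, hDJ, P.f_JxJw T.toSkew] at h1
      rw [T.f_JJ, hDself w w, hDdiag, P.iso] at h1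
      linear_combination h1
  -- the three quadratics
  have hq1 : ∀ t : F, f (x + t • J w) (C (x + t • J w)) =
      f x (C x) + 2 * f x (C (J w)) * t + f (J w) (C (J w)) * t * t := fun t => by
    simp only [map_add, map_smul, Symp.add_left hf, Symp.add_right hf, Symp.smul_left hf, Symp.smul_right hf,
      hCsym (J w) x]
    ring
  have hq2 : ∀ t : F, f (x + t • J w) (C (J (x + t • J w))) =
      f x (C (J x)) + (δ * f x (C w) + f (J w) (C (J x))) * t + δ * f (J w) (C w) * t * t := fun t => by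
    simp only [map_add, map_smul, T.sq, Symp.add_left hf, Symp.add_right hf, Symp.smul_left hf, Symp.smul_right hf]
    ring
  have hq3 : ∀ t : F, f (J (x + t • J w)) (D (x + t • J w)) =
      f (J x) (D x) + (f (J x) (D (J w)) + δ * f w (D x)) * t + δ * f w (D (J w)) * t * t := fun t => by
    simp only [map_add, map_smul, T.sq, Symp.add_left hf, Symp.add_right hf, Symp.smul_left hf, Symp.smul_right hf]
    ring
  have hcase : ((∀ t : F, f (x + t • J w) (C (x + t • J w)) = 0) ∧ ∀ t : F, f (x + t • J w) (C (J (x + t • J w))) = 0) ∨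
      ((∀ t : F, f (J (x + t • J w)) (D (x + t • J w)) = 0) ∧ f (D x) (J w) = 0) := by
    by_contra hc
    rw [not_or] at hc
    obtain ⟨hc1, hc2⟩ := hc
    obtain ⟨R, hR, hR'⟩ : ∃ R : Finset F, R.card ≤ 2 ∧ ∀ t : F, f (x + t • J w) (C (x + t • J w)) = 0 →
        f (x + t • J w) (C (J (x + t • J w))) = 0 → t ∈ R := by
      by_cases h1 : ∀ t : F, f (x + t • J w) (C (x + t • J w)) = 0
      · have h2 : ¬ ∀ t : F, f (x + t • J w) (C (J (x + t • J w))) = 0 := fun h => hc1 ⟨h1, h⟩
        simp only [hq2] at h2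
        obtain ⟨R, hR, hR'⟩ := quadratic_roots h2
        exact ⟨R, hR, fun t _ h => hR' t (by rwa [hq2] at h)⟩
      · simp only [hq1] at h1
        obtain ⟨R, hR, hR'⟩ := quadratic_roots h1
        exact ⟨R, hR, fun t h _ => hR' t (by rwa [hq1] at h)⟩
    obtain ⟨R', hR'c, hR''⟩ : ∃ R : Finset F, R.card ≤ 2 ∧ ∀ t : F, f (J (x + t • J w)) (D (x + t • J w)) = 0 →
        f (D x) (J w) = 0 → t ∈ R := by
      by_cases h0 : f (D x) (J w) = 0
      · have h2 : ¬ ∀ t : F, f (J (x + t • J w)) (D (x + t • J w)) = 0 := fun h => hc2 ⟨h, h0⟩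
        simp only [hq3] at h2
        obtain ⟨R, hR, hR'⟩ := quadratic_roots h2
        exact ⟨R, hR, fun t h _ => hR' t (by rwa [hq3] at h)⟩
      · exact ⟨∅, by simp, fun t _ h => absurd h h0⟩
    have hs : (Finset.univ : Finset F) ⊆ R ∪ R' := fun t _ => by
      rcases key t with h | h
      · exact Finset.mem_union_left _ (hR' t h.1 h.2)
      · exact Finset.mem_union_right _ (hR'' t h.1 h.2)
    have := (Finset.card_le_card hs).trans (Finset.card_union_le _ _)
    rw [Finset.card_univ] at this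
    have := T.five
    omega
  rcases hcase with ⟨h1, h2⟩ | ⟨h3, h0⟩
  · -- `C = 0`
    simp only [hq1] at h1
    simp only [hq2] at h2
    obtain ⟨a1, b1, c1⟩ := quadratic_zero T.two h1
    obtain ⟨a2, b2, c2⟩ := quadratic_zero T.two h2
    have b1' : f x (C (J w)) = 0 := (mul_eq_zero.1 b1).resolve_left T.two
    have c2' : f (J w) (C w) = 0 := (mul_eq_zero.1 c2).resolve_left T.ne
    have hJC : ∀ a b, f (J a) (C (J b)) = δ * f a (C b) := fun a b => by
      rw [hCJ, Symp.neg_right hf, T.f_JJ, neg_neg]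
    have hxw : f x (C w) = 0 := by
      have e := hJC w x
      rw [hCsym w x] at e
      have h4 : (2 * δ) * f x (C w) = 0 := by linear_combination b2 - e
      exact (mul_eq_zero.1 h4).resolve_left (mul_ne_zero T.two T.ne)
    have k1 : f (J x) (C x) = 0 := by rw [hCsym, a2]
    have k2 : f (J x) (C (J x)) = 0 := by rw [hJC, a1, mul_zero]
    have k3 : f w (C w) = 0 := (mul_eq_zero.1 (by rw [← hJC, c1])).resolve_left T.ne
    have k4 : f w (C (J w)) = 0 := by rw [hCsym, c2']
    have k5 : f w (C x) = 0 := by rw [hCsym, hxw]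
    have k6 : f (J w) (C (J x)) = 0 := by rw [hJC, k5, mul_zero]
    have k7 : f (J x) (C (J w)) = 0 := by rw [hCsym, k6]
    have k8 : f w (C (J x)) = 0 := by
      rw [hCJ, Symp.neg_right hf, neg_eq_zero]
      have e : f w (J (C x)) = -f (J w) (C x) := by rw [T.skew, neg_neg]
      rw [e, hCsym, b1', neg_zero]
    have hCu : C u = 0 := by
      have e : ∀ c, f c (C x) = f x (C c) := fun c => hCsym c x
      have cx : ∀ b, f x (C b) = 0 ∧ f (J x) (C b) = 0 ∧ f w (C b) = 0 ∧ f (J w) (C b) = 0 := fun b => by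
        have E1 : f (J x) (C w) = 0 := by rw [hCsym, k8]
        have E2 : f (J w) (C x) = 0 := by rw [hCsym, b1']
        rw [P.coords T.toSkew b]
        simp only [map_add, map_smul, Symp.add_right hf, Symp.smul_right hf, a1, a2, b1', hxw, k1, k2, k3, k4, k5, k6,
          k7, k8, c1, c2', E1, E2]
        simp
      have h := P.coords T.toSkew (C u)
      obtain ⟨g1, g2, g3, g4⟩ := cx u
      rw [hf.skew (C u) (J w), hf.skew (C u) w, hf.skew (C u) (J x), hf.skew (C u) x, g1, g2, g3, g4] at h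
      rw [h]
      module
    rw [hC, hNu, map_zero, zero_sub, neg_eq_zero] at hCu
    exact hJu hCu
  · -- `D` is a multiple of `J`
    simp only [hq3] at h3
    obtain ⟨a3, b3, c3⟩ := quadratic_zero T.two h3
    have c3' : f w (D (J w)) = 0 := (mul_eq_zero.1 c3).resolve_left T.ne
    set b0 := -f (D x) w with hb0
    have g1 : f (D x) x = 0 := by rw [hDself, hDdiag]
    have g2 : f (D x) (J x) = 0 := by rw [hf.skew, a3, neg_zero]
    have hDx : D x = b0 • J x := by
      conv_lhs => rw [P.coords T.toSkew (D x)]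
      rw [h0, g1, g2, hb0]
      module
    have hb3 : f (J x) (D (J w)) = -(δ * f w (D x)) := by linear_combination b3
    have h5 : f x (D w) = -b0 := by rw [← hDself, hb0, neg_neg]
    have h6 : f w (D x) = b0 := by rw [hDx, Symp.smul_right hf, P.f_wJx T.toSkew, mul_one]
    have hb : b0 = 0 := by
      rw [hDJ, T.f_JJ, h5, h6] at hb3
      have h7 : (2 * δ) * b0 = 0 := by linear_combination hb3
      exact (mul_eq_zero.1 h7).resolve_left (mul_ne_zero T.two T.ne)
    have hDw : D w = 0 := by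
      have i1 : f (D w) w = 0 := by rw [hDself, hDdiag]
      have i2 : f (D w) (J w) = 0 := by rw [hDself, c3']
      have i3 : f (D w) x = 0 := by rw [hDself, h6, hb]
      have i4 : f (D w) (J x) = 0 := by
        rw [hDself, hDJ, hDx, hb, zero_smul, map_zero, Symp.zero_right hf]
      rw [P.coords T.toSkew (D w), i1, i2, i3, i4]
      module
    have hDu : D u = 0 := by
      rw [P.coords T.toSkew u]
      simp only [map_add, map_smul, hDJ, hDx, hDw, hb, map_zero, zero_smul, smul_zero, add_zero]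
    rw [hD, hNu, map_zero, zero_add] at hDu
    exact hJu hDu

theorem Skew.exists_gen (S : Skew f J δ) : ∃ x, Gen f J x := by
  classical
  have hf := S.symp
  have hι : Nonempty ι := Fintype.card_pos_iff.1 (by rw [S.card]; omega)
  obtain ⟨e₀, he₀⟩ := exists_ne (0 : ι → F)
  suffices h : ∃ p, p ≠ 0 ∧ f p (J p) = 0 by
    obtain ⟨p, hp0, hp⟩ := h
    obtain ⟨x, -, -, hx, -⟩ := S.exists_plane hp hp0
    exact ⟨x, hx⟩
  by_contra hc
  push Not at hc
  set W := Symp.perp hf (Submodule.span F {e₀, J e₀}) with hW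
  obtain ⟨z, hz, hz0⟩ : ∃ z ∈ W, z ≠ 0 := by
    refine Submodule.exists_mem_ne_zero_of_ne_bot fun hbot => ?_
    have h1 := Symp.finrank_perp hf (Submodule.span F {e₀, J e₀})
    rw [← hW, hbot, finrank_bot, zero_add, S.card] at h1
    have h2 : Module.finrank F (Submodule.span F ({e₀, J e₀} : Set (ι → F))) ≤ 2 :=
      (finrank_span_le_card _).trans (by rw [Set.toFinset_insert, Set.toFinset_singleton]; exact Finset.card_le_two)
    omega
  have z1 : f e₀ z = 0 := (Symp.mem_perp hf).1 hz e₀ (Submodule.subset_span (by simp))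
  have z2 : f (J e₀) z = 0 := (Symp.mem_perp hf).1 hz (J e₀) (Submodule.subset_span (by simp))
  set A := f e₀ (J e₀) with hA
  have hA0 : A ≠ 0 := hc e₀ he₀
  set B := f z (J z) with hB
  have h2 : ringChar F ≠ 2 := fun h => S.two (by
    haveI := ringChar.eq_iff.1 h
    exact CharTwo.two_eq_zero)
  obtain ⟨a, b, hab⟩ := FiniteField.exists_root_sum_quadratic (R := F)
    (f := Polynomial.X ^ 2) (g := Polynomial.C (-δ) * Polynomial.X ^ 2 + Polynomial.C (B / A))
    (Polynomial.degree_X_pow 2) (by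
      rw [Polynomial.degree_add_eq_left_of_degree_lt]
      · exact Polynomial.degree_C_mul_X_pow 2 (neg_ne_zero.2 S.ne)
      · rw [Polynomial.degree_C_mul_X_pow 2 (neg_ne_zero.2 S.ne)]
        exact lt_of_le_of_lt Polynomial.degree_C_le (by norm_num)) (FiniteField.odd_card_of_char_ne_two h2)
  simp only [Polynomial.eval_pow, Polynomial.eval_X, Polynomial.eval_add, Polynomial.eval_mul, Polynomial.eval_C] at hab
  set p := a • e₀ + b • J e₀ + z with hp
  have hzJ1 : f (a • e₀ + b • J e₀) (J z) = 0 := by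
    rw [Symp.add_left hf, Symp.smul_left hf, Symp.smul_left hf, S.f_JJ, z1]
    have : f e₀ (J z) = 0 := by
      have h := S.skew e₀ z
      rw [z2] at h
      linear_combination h
    rw [this]; ring
  have hpφ : f p (J p) = 0 := by
    rw [hp, S.phi_add, hzJ1, S.phi_add, S.phi_smul, S.phi_smul, S.phi_J, map_smul, S.sq, Symp.smul_left hf,
      Symp.smul_right hf, Symp.smul_right hf, hf.alternating]
    rw [← hA, ← hB]
    field_simp at hab
    linear_combination hab
  refine hc p (fun hp0 => ?_) hpφ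
  have hzp : z = (-a) • e₀ + (-b) • J e₀ := by rw [hp] at hp0; linear_combination (norm := module) hp0
  have hB0 : B ≠ 0 := hc z hz0
  apply hB0
  have h := hzJ1
  rw [hB]
  nth_rewrite 1 [hzp]
  rw [show (-a) • e₀ + (-b) • J e₀ = -(a • e₀ + b • J e₀) by module, Symp.neg_left hf, h, neg_zero]

/-- The stabiliser of `± J` is maximal among the isometries. -/
theorem maximal_skew (S : Skew f J δ) (h5 : 5 ≤ Fintype.card F) (K M : Subgroup (GL ι F))
    (hK : ∀ g : GL ι F, g ∈ K ↔ Symp.IsIsometry f g)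
    (hM : ∀ g : GL ι F, g ∈ M ↔ Symp.IsIsometry f g ∧
      ∃ ε : F, ε * ε = 1 ∧ ∀ z, (g : Matrix ι ι F) *ᵥ J z = ε • J ((g : Matrix ι ι F) *ᵥ z)) :
    Cfsg.Geo.IsMaximalIn K M := by
  have hf := S.symp
  obtain ⟨x, hx⟩ := S.exists_gen
  obtain ⟨w, P⟩ := hx.exists_frame S
  have hle : M ≤ K := fun g hg => (hK g).2 ((hM g).1 hg).1
  refine ⟨lt_of_le_of_ne hle fun he => ?_, fun H hMH hHK => ?_⟩
  · have hmem := he.ge ((hK (formTv f (x + w) 1)).2 (Symp.formTv_isometry hf _ _))
    obtain ⟨-, ε, hε, h⟩ := (hM _).1 hmem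
    have hφ : f (x + w) (J (x + w)) = 2 := by rw [S.phi_add, P.gen.1, P.iso, P.pair]; ring
    have h1 := h (x + w)
    simp only [Symp.formTv_mulVec hf, hf.alternating, mul_zero, zero_smul, add_zero, one_mul] at h1
    rw [hf.skew (J (x + w)), hφ] at h1
    have h2 := congrArg (f · (J (x + w))) h1
    rw [Symp.add_left hf, Symp.smul_left hf, hf.alternating, hφ, Symp.smul_left hf, hf.alternating, mul_zero,
      zero_add] at h2
    exact mul_ne_zero S.two S.two (by linear_combination -h2)
  · by_cases hHM : H ≤ M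
    · exact Or.inl (le_antisymm hHM hMH)
    right
    obtain ⟨g, hgH, hgM⟩ := SetLike.not_le_iff_exists.1 hHM
    have hgi := (hK g).1 (hHK hgH)
    have T : Over f J δ H := { S with five := h5, mem := fun h ε hε hi hc => hMH ((hM h).2 ⟨hi, ε, hε, hc⟩) }
    refine le_antisymm hHK fun k hk => Symp.isometry_mem_of_formTv_mem hf (fun v c => T.all_of_hasTv ?_ v c) ((hK k).1 hk)
    by_contra hno
    refine hgM ((hM g).2 ⟨hgi, S.respects hx fun y hy => ?_⟩)
    by_cases han : ∀ μ ν : F, μ ≠ 0 ∨ ν ≠ 0 →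
        f ((g : Matrix ι ι F) *ᵥ (μ • y + ν • J y)) (J ((g : Matrix ι ι F) *ᵥ (μ • y + ν • J y))) ≠ 0
    · exact absurd (T.hasTv_of_anisotropic P hgH hgi hy han) hno
    push Not at han
    obtain ⟨μ, ν, h0, hp⟩ := han
    exact (T.dichotomy hgH hgi hy h0 hp).resolve_left hno

end CfsgLib.Sp4Pair
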