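import Cfsg.Agent.Lib.GeomClasses.Decomp
import Cfsg.Agent.Lib.GeomClasses.OrthCplxField
import Cfsg.Agent.Lib.Sp4Pair.Max

/-!
Pairs of complementary Lagrangian planes and non-self-adjoint quadratic fields in `Sp₄(q)`, `q ≥ 5` odd.
-/

set_option autoImplicit false
set_option linter.unusedSectionVars false
set_option linter.unusedSimpArgs false

namespace CfsgLib.Sp4Pair

open Matrix CfsgLib.GeomClasses
open CfsgLib.GeomClasses.OrthCplx (mem_span_one)

variable {F : Type*} [Field F] [Fintype F]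

theorem two_ne_of_odd (hodd : Odd (Fintype.card F)) : (2 : F) ≠ 0 :=
  Ring.two_ne_zero fun h => Nat.not_odd_iff.2 (FiniteField.even_card_iff_char_two.1 h) hodd

/-- The stabiliser of a pair of complementary totally isotropic planes is maximal. -/
theorem maximal_lagrangian_pair (hodd : Odd (Fintype.card F)) (h5 : 5 ≤ Fintype.card F)
    (D : Fin 2 → Submodule F (Fin 2 ⊕ Fin 2 → F)) (hD : Cfsg.Geo.IsMDecomposition 2 D)
    (hts : ∀ i, Cfsg.Geo.IsTotallySingularFor (Cfsg.sympForm 2 F) (D i)) :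
    Cfsg.Geo.IsMaximalIn (Cfsg.spGL 2 F) (Cfsg.Geo.decompositionStabilizer D ⊓ Cfsg.spGL 2 F) := by
  classical
  have hf := Symp.isSymplecticForm_sympForm (F := F) 2
  have h2 := two_ne_of_odd hodd
  set f := Cfsg.sympForm 2 F with hfd
  let J : (Fin 2 ⊕ Fin 2 → F) →ₗ[F] (Fin 2 ⊕ Fin 2 → F) := Decomp.comp hD 0 - Decomp.comp hD 1
  have hJ : ∀ z, J z = Decomp.comp hD 0 z - Decomp.comp hD 1 z := fun z => rfl
  have hsum : ∀ z, Decomp.comp hD 0 z + Decomp.comp hD 1 z = z := fun z => by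
    have := Decomp.sum_comp hD z
    rwa [Fin.sum_univ_two] at this
  have c0 := fun z => Decomp.comp_mem hD 0 z
  have c1 := fun z => Decomp.comp_mem hD 1 z
  have hJ0 : ∀ z ∈ D 0, J z = z := fun z hz => by
    rw [hJ, Decomp.comp_of_mem hD hz, Decomp.comp_of_mem_ne hD (show (0 : Fin 2) ≠ 1 by decide) hz, sub_zero]
  have hJ1 : ∀ z ∈ D 1, J z = -z := fun z hz => by
    rw [hJ, Decomp.comp_of_mem hD hz, Decomp.comp_of_mem_ne hD (show (1 : Fin 2) ≠ 0 by decide) hz, zero_sub]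
  have hiso : ∀ i, ∀ a ∈ D i, ∀ b ∈ D i, f a b = 0 := fun i a ha b hb => hts i a ha b hb
  have S : Skew f J (1 : F) :=
    { symp := hf
      card := by simp
      two := h2
      sq := fun x => by rw [one_smul, hJ x, map_sub, hJ0 _ (c0 x), hJ1 _ (c1 x), sub_neg_eq_add, hsum]
      skew := fun x y => by
        conv_rhs => rw [← hsum x]
        conv_lhs => rw [← hsum y]
        rw [hJ x, hJ y, Symp.sub_left hf, Symp.add_right hf, Symp.add_right hf, Symp.add_left hf, Symp.sub_right hf,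
          Symp.sub_right hf, hiso 0 _ (c0 x) _ (c0 y), hiso 1 _ (c1 x) _ (c1 y)]
        ring
      ne := one_ne_zero }
  refine maximal_skew S h5 _ _ (fun g => Symp.mem_spGL) fun g => ⟨fun hg => ⟨Symp.mem_spGL.1 hg.2, ?_⟩, ?_⟩
  · obtain ⟨σ, hσ⟩ := hg.1
    have hin : ∀ i, ∀ z ∈ D i, (g : Matrix (Fin 2 ⊕ Fin 2) (Fin 2 ⊕ Fin 2) F) *ᵥ z ∈ D (σ i) := fun i z hz => by
      rw [← hσ i]
      exact ⟨z, hz, by simp⟩
    have hexp : ∀ z, (g : Matrix (Fin 2 ⊕ Fin 2) (Fin 2 ⊕ Fin 2) F) *ᵥ J z = (g : Matrix (Fin 2 ⊕ Fin 2) (Fin 2 ⊕ Fin 2) F) *ᵥ Decomp.comp hD 0 z -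
        (g : Matrix (Fin 2 ⊕ Fin 2) (Fin 2 ⊕ Fin 2) F) *ᵥ Decomp.comp hD 1 z := fun z => by rw [hJ, mulVec_sub]
    have hexp' : ∀ z, (g : Matrix (Fin 2 ⊕ Fin 2) (Fin 2 ⊕ Fin 2) F) *ᵥ z = (g : Matrix (Fin 2 ⊕ Fin 2) (Fin 2 ⊕ Fin 2) F) *ᵥ Decomp.comp hD 0 z +
        (g : Matrix (Fin 2 ⊕ Fin 2) (Fin 2 ⊕ Fin 2) F) *ᵥ Decomp.comp hD 1 z := fun z => by rw [← mulVec_add, hsum]
    by_cases h0 : σ 0 = 0
    · have h1 : σ 1 = 1 := by
        have : σ 1 ≠ σ 0 := fun e => absurd (σ.injective e) (by decide)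
        omega
      refine ⟨1, one_mul 1, fun z => ?_⟩
      have e0 := hin 0 _ (c0 z)
      have e1 := hin 1 _ (c1 z)
      rw [h0] at e0
      rw [h1] at e1
      rw [one_smul, hexp z, congrArg J (hexp' z), map_add, hJ0 _ e0, hJ1 _ e1, sub_eq_add_neg]
    · have h0' : σ 0 = 1 := by omega
      have h1 : σ 1 = 0 := by
        have : σ 1 ≠ σ 0 := fun e => absurd (σ.injective e) (by decide)
        omega
      refine ⟨-1, by ring, fun z => ?_⟩
      have e0 := hin 0 _ (c0 z)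
      have e1 := hin 1 _ (c1 z)
      rw [h0'] at e0
      rw [h1] at e1
      rw [hexp z, congrArg J (hexp' z), map_add, hJ1 _ e0, hJ0 _ e1]
      module
  · rintro ⟨hgi, ε, hε, h⟩
    have back0 : ∀ z, J z = z → z ∈ D 0 := fun z hz => by
      have e : (2 : F) • Decomp.comp hD 1 z = 0 := by
        rw [two_smul]
        calc _ = z - J z := by rw [hJ]; nth_rewrite 3 [← hsum z]; abel
          _ = 0 := by rw [hz, sub_self]
      rw [← hsum z, (smul_eq_zero.1 e).resolve_left h2, add_zero]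
      exact c0 z
    have back1 : ∀ z, J z = -z → z ∈ D 1 := fun z hz => by
      have e : (2 : F) • Decomp.comp hD 0 z = 0 := by
        rw [two_smul]
        calc _ = z + J z := by rw [hJ]; nth_rewrite 3 [← hsum z]; abel
          _ = 0 := by rw [hz, add_neg_cancel]
      rw [← hsum z, (smul_eq_zero.1 e).resolve_left h2, zero_add]
      exact c1 z
    have himg : ∀ i j : Fin 2, (∀ z ∈ D i, (g : Matrix (Fin 2 ⊕ Fin 2) (Fin 2 ⊕ Fin 2) F) *ᵥ z ∈ D j) →
        (D i).map (Matrix.toLin' (g : Matrix (Fin 2 ⊕ Fin 2) (Fin 2 ⊕ Fin 2) F)) = D j := fun i j hij => by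
      refine Submodule.eq_of_le_of_finrank_le (Submodule.map_le_iff_le_comap.2 fun z hz => by
        simpa using hij z hz) ?_
      refine ((hD.finrank_eq j).trans (hD.finrank_eq i).symm).le.trans ?_
      exact (LinearEquiv.finrank_eq (Submodule.equivMapOfInjective _ (fun a b hab =>
        gl_mulVec_injective g (by simpa using hab)) (D i))).le
    refine ⟨?_, Symp.mem_spGL.2 hgi⟩
    rcases mul_self_eq_one_iff.1 hε with rfl | rfl
    · refine ⟨1, fun i => himg i _ fun z hz => ?_⟩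
      rcases (show i = 0 ∨ i = 1 by omega) with rfl | rfl
      · exact back0 _ (by simpa [hJ0 z hz] using (h z).symm)
      · refine back1 _ ?_
        have e := h z
        rw [hJ1 z hz, mulVec_neg, one_smul] at e
        exact e.symm
    · refine ⟨Equiv.swap 0 1, fun i => himg i _ fun z hz => ?_⟩
      rcases (show i = 0 ∨ i = 1 by omega) with rfl | rfl
      · rw [Equiv.swap_apply_left]
        refine back1 _ ?_
        have e := h z
        rw [hJ0 z hz, neg_smul, one_smul] at e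
        exact neg_eq_iff_eq_neg.1 e.symm
      · rw [Equiv.swap_apply_right]
        refine back0 _ ?_
        have e := h z
        rw [hJ1 z hz, mulVec_neg, neg_smul, one_smul] at e
        exact (neg_injective e).symm

/-- The normaliser of a quadratic field which is closed under adjoints but not self-adjoint is maximal. -/
theorem maximal_unitary_field (hodd : Odd (Fintype.card F)) (h5 : 5 ≤ Fintype.card F)
    (K : Subalgebra F (Matrix (Fin 2 ⊕ Fin 2) (Fin 2 ⊕ Fin 2) F)) (hK : Cfsg.Geo.IsFieldSubalgebra 2 K)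
    (hac : Cfsg.Geo.IsAdjointClosedFor (Cfsg.sympForm 2 F) K)
    (hnsa : ¬ Cfsg.Geo.IsSelfAdjointFor (Cfsg.sympForm 2 F) K) :
    Cfsg.Geo.IsMaximalIn (Cfsg.spGL 2 F) (Cfsg.Geo.subalgebraNormalizer K ⊓ Cfsg.spGL 2 F) := by
  classical
  have h2 := two_ne_of_odd hodd
  have hf := Symp.isSymplecticForm_sympForm (F := F) 2
  set f := Cfsg.sympForm 2 F with hfdef
  simp only [Cfsg.Geo.IsSelfAdjointFor, not_forall] at hnsa
  obtain ⟨j, hj, u₁, v₁, huv₁⟩ := hnsa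
  obtain ⟨j', hj', hjj'⟩ := hac j hj
  set d : Matrix (Fin 2 ⊕ Fin 2) (Fin 2 ⊕ Fin 2) F := j - j' with hd'
  have hdK : d ∈ K := K.sub_mem hj hj'
  have hskew : ∀ x y, f (d *ᵥ x) y = -f x (d *ᵥ y) := fun x y => by
    have hadj' : f (j' *ᵥ x) y = f x (j *ᵥ y) := by rw [hf.skew (j' *ᵥ x), ← hjj', ← hf.skew]
    rw [hd', Matrix.sub_mulVec, Matrix.sub_mulVec, Symp.sub_left hf, Symp.sub_right hf, hjj', hadj']
    ring
  obtain ⟨x₀, y₀, hxy⟩ : ∃ x y, f x (d *ᵥ y) ≠ 0 :=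
    ⟨u₁, v₁, fun h => huv₁ (by
      rw [hd', Matrix.sub_mulVec, Symp.sub_right hf, sub_eq_zero] at h
      rw [hjj', ← h])⟩
  have hns : ∀ a : F, d ≠ a • 1 := fun a ha => by
    have h := hskew x₀ y₀
    rw [ha, Matrix.smul_mulVec, Matrix.smul_mulVec, Matrix.one_mulVec, Matrix.one_mulVec, Symp.smul_left hf,
      Symp.smul_right hf] at h
    have h0 : 2 * (a * f x₀ y₀) = 0 := by linear_combination h
    exact hxy (by
      rw [ha, Matrix.smul_mulVec, Matrix.one_mulVec, Symp.smul_right hf]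
      exact (mul_eq_zero.1 h0).resolve_left h2)
  obtain ⟨ν, b, hνb⟩ := mem_span_one hK hdK hns (K.mul_mem hdK hdK)
  let J := Matrix.toLin' d
  have hJ : ∀ z, J z = d *ᵥ z := fun z => Matrix.toLin'_apply d z
  have hdd : ∀ x, d *ᵥ (d *ᵥ x) = ν • x + b • (d *ᵥ x) := fun x => by
    rw [Matrix.mulVec_mulVec, hνb, Matrix.add_mulVec, Matrix.smul_mulVec, Matrix.smul_mulVec, Matrix.one_mulVec]
  have hb : b = 0 := by
    have h : f (d *ᵥ (d *ᵥ x₀)) y₀ = f x₀ (d *ᵥ (d *ᵥ y₀)) := by rw [hskew, hskew, neg_neg]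
    rw [hdd, hdd, Symp.add_left hf, Symp.add_right hf, Symp.smul_left hf, Symp.smul_left hf, Symp.smul_right hf,
      Symp.smul_right hf, hskew] at h
    have h0 : 2 * (b * f x₀ (d *ᵥ y₀)) = 0 := by linear_combination -h
    exact (mul_eq_zero.1 ((mul_eq_zero.1 h0).resolve_left h2)).resolve_right hxy
  subst hb
  rw [zero_smul, add_zero] at hνb
  have hν : ν ≠ 0 := fun h0 => by
    rw [h0, zero_smul] at hνb
    obtain ⟨z, hzK, hz1⟩ := hK.inv _ hdK (fun e => hns 0 (by rw [e, zero_smul]))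
    exact hns 0 (by
      rw [zero_smul]
      calc d = (d * z) * d := by
            first | rw [hz1, one_mul] | rw [hK.comm d hdK z ‹z ∈ K›, hz1, one_mul]
        _ = 0 := by
            rw [hK.comm d hdK z ‹z ∈ K›, mul_assoc, hνb, mul_zero])
  have S : Skew f J ν :=
    { symp := hf
      card := by simp
      two := h2
      sq := fun x => by rw [hJ, hJ, hdd, zero_smul, add_zero]
      skew := fun x y => by rw [hJ, hJ, hskew]
      ne := hν }
  refine maximal_skew S h5 _ _ (fun g => Symp.mem_spGL) fun g => ⟨fun hg => ?_, ?_⟩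
  · have hgi : Symp.IsIsometry f g := Symp.mem_spGL.1 hg.2
    refine ⟨hgi, ?_⟩
    obtain ⟨a, c, hac'⟩ := mem_span_one hK hdK hns ((hg.1 d).1 hdK)
    have key : ∀ z, (g : Matrix (Fin 2 ⊕ Fin 2) (Fin 2 ⊕ Fin 2) F) *ᵥ (d *ᵥ z) = a • ((g : Matrix (Fin 2 ⊕ Fin 2) (Fin 2 ⊕ Fin 2) F) *ᵥ z) + c • (d *ᵥ ((g : Matrix (Fin 2 ⊕ Fin 2) (Fin 2 ⊕ Fin 2) F) *ᵥ z)) :=
      fun z => by
        have h := congrArg (fun y => y *ᵥ ((g : Matrix (Fin 2 ⊕ Fin 2) (Fin 2 ⊕ Fin 2) F) *ᵥ z)) hac'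
        simp only [← Matrix.mulVec_mulVec, Matrix.add_mulVec, Matrix.smul_mulVec, Matrix.one_mulVec] at h
        rwa [gl_inv_mulVec_mulVec] at h
    have ha : a = 0 := by
      have h := hskew x₀ (d *ᵥ y₀)
      rw [← hgi (d *ᵥ x₀) (d *ᵥ y₀), ← hgi x₀ (d *ᵥ (d *ᵥ y₀)), key x₀, key (d *ᵥ y₀), Symp.add_left hf,
        Symp.add_right hf, Symp.smul_left hf, Symp.smul_left hf, Symp.smul_right hf, Symp.smul_right hf, hskew] at h
      rw [hgi] at h
      have h0 : 2 * (a * f x₀ (d *ᵥ y₀)) = 0 := by linear_combination h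
      exact (mul_eq_zero.1 ((mul_eq_zero.1 h0).resolve_left h2)).resolve_right hxy
    subst ha
    have hcc : c * c = 1 := by
      have e := key (d *ᵥ x₀)
      rw [key x₀] at e
      simp only [hdd, zero_smul, zero_add, add_zero, mulVec_smul, smul_smul] at e
      have hx0 : (g : Matrix (Fin 2 ⊕ Fin 2) (Fin 2 ⊕ Fin 2) F) *ᵥ x₀ ≠ 0 := gl_mulVec_ne_zero g (x := x₀) fun e => hxy (by rw [e, Symp.zero_left hf])
      have h1 : ((c * c - 1) * ν) • ((g : Matrix (Fin 2 ⊕ Fin 2) (Fin 2 ⊕ Fin 2) F) *ᵥ x₀) = 0 := by linear_combination (norm := module) -e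
      exact sub_eq_zero.1 ((mul_eq_zero.1 ((smul_eq_zero.1 h1).resolve_right hx0)).resolve_right hν)
    exact ⟨c, hcc, fun z => by rw [hJ, hJ, key, zero_smul, zero_add]⟩
  · rintro ⟨hgi, ε, hε, h⟩
    refine ⟨?_, Symp.mem_spGL.2 hgi⟩
    have hgd : (g : Matrix (Fin 2 ⊕ Fin 2) (Fin 2 ⊕ Fin 2) F) * d = ε • (d * (g : Matrix (Fin 2 ⊕ Fin 2) (Fin 2 ⊕ Fin 2) F)) :=
      Matrix.ext_of_mulVec_single fun i => by
        rw [Matrix.smul_mulVec, ← Matrix.mulVec_mulVec, ← Matrix.mulVec_mulVec, ← hJ, h, hJ]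
    have hinv : d * ((g⁻¹ : GL (Fin 2 ⊕ Fin 2) F) : Matrix (Fin 2 ⊕ Fin 2) (Fin 2 ⊕ Fin 2) F) = ε • (((g⁻¹ : GL (Fin 2 ⊕ Fin 2) F) : Matrix (Fin 2 ⊕ Fin 2) (Fin 2 ⊕ Fin 2) F) * d) := by
      calc d * ((g⁻¹ : GL (Fin 2 ⊕ Fin 2) F) : Matrix (Fin 2 ⊕ Fin 2) (Fin 2 ⊕ Fin 2) F)
          = ((g⁻¹ : GL (Fin 2 ⊕ Fin 2) F) : Matrix (Fin 2 ⊕ Fin 2) (Fin 2 ⊕ Fin 2) F) * ((g : Matrix (Fin 2 ⊕ Fin 2) (Fin 2 ⊕ Fin 2) F) * d) *
              ((g⁻¹ : GL (Fin 2 ⊕ Fin 2) F) : Matrix (Fin 2 ⊕ Fin 2) (Fin 2 ⊕ Fin 2) F) := by rw [← mul_assoc, Units.inv_mul, one_mul]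
        _ = _ := by
          rw [hgd, Matrix.mul_smul, Matrix.smul_mul, ← mul_assoc, Units.mul_inv_cancel_right]
    intro k
    constructor
    · intro hk
      obtain ⟨a, c, rfl⟩ := mem_span_one hK hdK hns hk
      rw [mul_add, add_mul, Matrix.mul_smul, Matrix.mul_smul, Matrix.smul_mul, Matrix.smul_mul, mul_one, hgd,
        Matrix.smul_mul, mul_assoc d, Units.mul_inv, mul_one]
      exact K.add_mem (K.smul_mem K.one_mem _) (K.smul_mem (K.smul_mem hdK _) _)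
    · intro hk
      obtain ⟨a, c, hk'⟩ := mem_span_one hK hdK hns hk
      have e : k = ((g⁻¹ : GL (Fin 2 ⊕ Fin 2) F) : Matrix (Fin 2 ⊕ Fin 2) (Fin 2 ⊕ Fin 2) F) * (a • 1 + c • d) * (g : Matrix (Fin 2 ⊕ Fin 2) (Fin 2 ⊕ Fin 2) F) := by
        rw [← hk', ← mul_assoc, ← mul_assoc, Units.inv_mul, one_mul, Units.inv_mul_cancel_right]
      have e2 : ((g⁻¹ : GL (Fin 2 ⊕ Fin 2) F) : Matrix (Fin 2 ⊕ Fin 2) (Fin 2 ⊕ Fin 2) F) * d = ε • (d * ((g⁻¹ : GL (Fin 2 ⊕ Fin 2) F) : Matrix (Fin 2 ⊕ Fin 2) (Fin 2 ⊕ Fin 2) F)) := by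
        rw [hinv, smul_smul, hε, one_smul]
      rw [e, mul_add, add_mul, Matrix.mul_smul, Matrix.mul_smul, Matrix.smul_mul, Matrix.smul_mul, mul_one,
        Units.inv_mul, e2, Matrix.smul_mul, mul_assoc d, Units.inv_mul, mul_one]
      exact K.add_mem (K.smul_mem K.one_mem _) (K.smul_mem (K.smul_mem hdK _) _)

end CfsgLib.Sp4Pair
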