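import Cfsg.Agent.Lib.GeomClasses.Symp
import Cfsg.Agent.Lib.GeomClasses.SympRoot

/-!
A four dimensional symplectic space with a skew map `J`, `J² = δ ≠ 0`: frames adapted to `J` and the
isometries which commute or anticommute with `J`.
-/

set_option autoImplicit false
set_option linter.unusedSectionVars false
set_option linter.unusedSimpArgs false

namespace CfsgLib.Sp4Pair

open Matrix CfsgLib.GeomClasses

variable {ι : Type} [Fintype ι] [DecidableEq ι] {F : Type*} [Field F]

/-- A skew map squaring to a non-zero scalar in dimension four. -/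
structure Skew (f : (ι → F) → (ι → F) → F) (J : (ι → F) →ₗ[F] (ι → F)) (δ : F) : Prop where
  symp : Cfsg.Geo.IsSymplecticForm f
  card : Fintype.card ι = 4
  two : (2 : F) ≠ 0
  sq : ∀ x, J (J x) = δ • x
  skew : ∀ x y, f (J x) y = -f x (J y)
  ne : δ ≠ 0

/-- A generator of a totally isotropic plane invariant under `J` on which `J` is not scalar. -/
def Gen (f : (ι → F) → (ι → F) → F) (J : (ι → F) →ₗ[F] (ι → F)) (x : ι → F) : Prop :=
  f x (J x) = 0 ∧ ∀ a b : F, a • x + b • J x = 0 → a = 0 ∧ b = 0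

/-- Two generators of complementary planes in normal position. -/
structure Frame (f : (ι → F) → (ι → F) → F) (J : (ι → F) →ₗ[F] (ι → F)) (x w : ι → F) : Prop where
  gen : Gen f J x
  iso : f w (J w) = 0
  orth : f x w = 0
  pair : f x (J w) = 1

variable {f : (ι → F) → (ι → F) → F} {J : (ι → F) →ₗ[F] (ι → F)} {δ : F}

theorem Gen.ne_zero {x : ι → F} (hx : Gen f J x) : x ≠ 0 := fun h =>
  one_ne_zero (hx.2 1 0 (by rw [h, smul_zero, map_zero, smul_zero, add_zero])).1

variable (S : Skew f J δ)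
include S

theorem Skew.f_JJ (x y : ι → F) : f (J x) (J y) = -(δ * f x y) := by
  rw [S.skew, S.sq, Symp.smul_right S.symp]

theorem Skew.symm (x y : ι → F) : f x (J y) = f y (J x) := by
  rw [S.symp.skew y (J x), S.skew, neg_neg]

theorem Skew.phi_J (x : ι → F) : f (J x) (J (J x)) = -(δ * f x (J x)) := S.f_JJ x (J x)

theorem Skew.phi_smul (c : F) (x : ι → F) : f (c • x) (J (c • x)) = c * c * f x (J x) := by
  rw [map_smul, Symp.smul_left S.symp, Symp.smul_right S.symp, mul_assoc]

/-- The value of `z ↦ f(z, J z)` on a combination. -/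
theorem Skew.phi_add (x y : ι → F) :
    f (x + y) (J (x + y)) = f x (J x) + 2 * f x (J y) + f y (J y) := by
  rw [map_add, Symp.add_left S.symp, Symp.add_right S.symp, Symp.add_right S.symp, S.symm y x]
  ring

theorem Frame.f_wx {x w : ι → F} (P : Frame f J x w) : f w x = 0 := by rw [S.symp.skew, P.orth, neg_zero]

theorem Frame.f_wJx {x w : ι → F} (P : Frame f J x w) : f w (J x) = 1 := by rw [S.symm, P.pair]

theorem Frame.f_Jxw {x w : ι → F} (P : Frame f J x w) : f (J x) w = -1 := by rw [S.skew, P.pair]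

theorem Frame.f_Jwx {x w : ι → F} (P : Frame f J x w) : f (J w) x = -1 := by rw [S.symp.skew, P.pair]

theorem Frame.f_Jxx {x w : ι → F} (P : Frame f J x w) : f (J x) x = 0 := by
  rw [S.symp.skew, P.gen.1, neg_zero]

theorem Frame.f_Jww {x w : ι → F} (P : Frame f J x w) : f (J w) w = 0 := by
  rw [S.symp.skew, P.iso, neg_zero]

theorem Frame.f_JxJw {x w : ι → F} (P : Frame f J x w) : f (J x) (J w) = 0 := by
  rw [S.f_JJ, P.orth, mul_zero, neg_zero]

theorem Frame.f_JwJx {x w : ι → F} (P : Frame f J x w) : f (J w) (J x) = 0 := by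
  rw [S.f_JJ, P.f_wx S, mul_zero, neg_zero]

theorem Frame.form {x w : ι → F} (P : Frame f J x w) (a b c d a' b' c' d' : F) :
    f (a • x + b • J x + c • w + d • J w) (a' • x + b' • J x + c' • w + d' • J w) =
      a * d' - b * c' + c * b' - d * a' := by
  simp only [Symp.add_left S.symp, Symp.add_right S.symp, Symp.smul_left S.symp, Symp.smul_right S.symp,
    S.symp.alternating, P.gen.1, P.iso, P.orth, P.pair, P.f_wx S, P.f_wJx S, P.f_Jxw S, P.f_Jwx S,
    P.f_Jxx S, P.f_Jww S, P.f_JxJw S, P.f_JwJx S]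
  ring

theorem Frame.coords {x w : ι → F} (P : Frame f J x w) (y : ι → F) :
    y = f y (J w) • x + (-f y w) • J x + f y (J x) • w + (-f y x) • J w := by
  have hf := S.symp
  let L : (ι → F) →ₗ[F] (Fin 4 → F) :=
    LinearMap.pi ![(Symp.bil hf).flip (J w), (Symp.bil hf).flip w, (Symp.bil hf).flip (J x), (Symp.bil hf).flip x]
  have hL : ∀ z, L z = ![f z (J w), f z w, f z (J x), f z x] := fun z => by
    funext i; fin_cases i <;> rfl
  have hsurj : Function.Surjective L := fun v => ⟨v 0 • x + (-v 1) • J x + v 2 • w + (-v 3) • J w, by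
    rw [hL]
    funext i
    fin_cases i <;>
      simp [Symp.add_left hf, Symp.smul_left hf, Symp.neg_left hf, hf.alternating, P.gen.1, P.iso, P.orth, P.pair,
        P.f_wx S, P.f_wJx S, P.f_Jxw S, P.f_Jwx S, P.f_Jxx S, P.f_Jww S, P.f_JxJw S, P.f_JwJx S]⟩
  have hinj : Function.Injective L :=
    (LinearMap.injective_iff_surjective_of_finrank_eq_finrank (by simp [S.card])).2 hsurj
  refine hinj ?_
  rw [hL, hL]
  funext i
  fin_cases i <;>
    simp [Symp.add_left hf, Symp.smul_left hf, Symp.neg_left hf, hf.alternating, P.gen.1, P.iso, P.orth, P.pair,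
      P.f_wx S, P.f_wJx S, P.f_Jxw S, P.f_Jwx S, P.f_Jxx S, P.f_Jww S, P.f_JxJw S, P.f_JwJx S]

theorem Frame.gen_snd {x w : ι → F} (P : Frame f J x w) : Gen f J w := by
  refine ⟨P.iso, fun a b h => ?_⟩
  have h1 := congrArg (f · (J x)) h
  have h2 := congrArg (f · x) h
  simp only [Symp.add_left S.symp, Symp.smul_left S.symp, P.f_wJx S, P.f_JwJx S, P.f_wx S, P.f_Jwx S,
    Symp.zero_left S.symp] at h1 h2
  exact ⟨by linear_combination h1, by linear_combination -h2⟩

theorem Gen.exists_frame {x : ι → F} (hx : Gen f J x) : ∃ w, Frame f J x w := by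
  have hf := S.symp
  obtain ⟨z, hz⟩ := (hf.nondegenerate x hx.ne_zero).2
  obtain ⟨y, hy1, hy2⟩ : ∃ y, f x y = 0 ∧ f (J x) y ≠ 0 := by
    by_contra hc
    push Not at hc
    have h : ∀ y, f (J x - (f (J x) z / f x z) • x) y = 0 := fun y => by
      have h1 := hc (y - (f x y / f x z) • z) (by
        rw [Symp.sub_right hf, Symp.smul_right hf]; field_simp; ring)
      rw [Symp.sub_right hf, Symp.smul_right hf] at h1
      rw [Symp.sub_left hf, Symp.smul_left hf]
      linear_combination h1
    have h0 : J x - (f (J x) z / f x z) • x = 0 := by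
      by_contra hne
      obtain ⟨y, hy⟩ := (hf.nondegenerate _ hne).2
      exact hy (h y)
    exact one_ne_zero (hx.2 (-(f (J x) z / f x z)) 1 (by rw [← h0]; module)).2
  have hy3 : f x (J y) ≠ 0 := by
    rw [S.skew] at hy2
    exact fun h => hy2 (by rw [h, neg_zero])
  obtain ⟨y', e1, e2⟩ : ∃ y', f x y' = 0 ∧ f x (J y') = 1 :=
    ⟨(f x (J y))⁻¹ • y, by rw [Symp.smul_right hf, hy1, mul_zero],
      by rw [map_smul, Symp.smul_right hf, inv_mul_cancel₀ hy3]⟩
  refine ⟨y' + (-(f y' (J y')) / 2) • x, hx, ?_, ?_, ?_⟩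
  · rw [S.phi_add, S.phi_smul, hx.1, map_smul, Symp.smul_right hf, S.symm y' x, e2]
    field_simp [S.two]
    ring
  · rw [Symp.add_right hf, Symp.smul_right hf, e1, hf.alternating, mul_zero, add_zero]
  · rw [map_add, map_smul, Symp.add_right hf, Symp.smul_right hf, e2, hx.1, mul_zero, add_zero]

/-- Any two generators are related by an isometry commuting, or anticommuting, with `J`. -/
theorem Skew.exists_move {x y : ι → F} (hx : Gen f J x) (hy : Gen f J y) {ε : F} (hε : ε * ε = 1) :
    ∃ g : GL ι F, Symp.IsIsometry f g ∧ (g : Matrix ι ι F) *ᵥ x = y ∧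
      ∀ z, (g : Matrix ι ι F) *ᵥ J z = ε • J ((g : Matrix ι ι F) *ᵥ z) := by
  classical
  have hf := S.symp
  obtain ⟨w, P⟩ := hx.exists_frame S
  obtain ⟨v, Q⟩ := hy.exists_frame S
  let Φ : (ι → F) →ₗ[F] (ι → F) :=
    ((Symp.bil hf).flip (J w)).smulRight y + ((Symp.bil hf).flip w).smulRight (-ε • J y) +
      ((Symp.bil hf).flip (J x)).smulRight (ε • v) + ((Symp.bil hf).flip x).smulRight (-J v)
  have hΦ : ∀ z, Φ z = f z (J w) • y + (-(ε * f z w)) • J y + (ε * f z (J x)) • v + (-f z x) • J v := fun z => by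
    simp only [Φ, LinearMap.add_apply, LinearMap.smulRight_apply, LinearMap.flip_apply, LinearMap.BilinForm.flip_apply, Symp.bil_apply]
    module
  have hiso : ∀ z z', f (Φ z) (Φ z') = f z z' := fun z z' => by
    have h := congrArg₂ f (P.coords S z) (P.coords S z')
    rw [P.form S] at h
    rw [hΦ, hΦ, Q.form S, h]
    linear_combination (f z w * f z' (J x) - f z (J x) * f z' w) * hε
  have hinj : Function.Injective Φ := fun a b hab => by
    by_contra hne
    obtain ⟨z, hz⟩ := (hf.nondegenerate _ (sub_ne_zero.2 hne)).2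
    exact hz (by rw [← hiso, map_sub, hab, sub_self, Symp.zero_left hf])
  have hdet : (LinearMap.toMatrix' Φ).det ≠ 0 := by
    rw [LinearMap.det_toMatrix']
    exact (LinearEquiv.isUnit_det' (LinearEquiv.ofInjectiveEndo Φ hinj)).ne_zero
  refine ⟨Matrix.GeneralLinearGroup.mkOfDetNeZero (LinearMap.toMatrix' Φ) hdet, ?_⟩
  have hg : ∀ z, (Matrix.GeneralLinearGroup.mkOfDetNeZero (LinearMap.toMatrix' Φ) hdet : Matrix ι ι F) *ᵥ z = Φ z :=
    fun z => LinearMap.toMatrix'_mulVec Φ z
  simp only [Symp.IsIsometry, hg]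
  refine ⟨hiso, ?_, fun z => ?_⟩
  · rw [hΦ, P.orth, P.pair, P.gen.1, hf.alternating]; module
  · rw [hΦ, hΦ, S.f_JJ, S.f_JJ, S.skew z w, S.skew z x]
    simp only [map_add, map_smul, S.sq, smul_add, smul_smul]
    match_scalars <;> first | ring1 | (linear_combination (f z (J x)) * hε) | (linear_combination (-(f z (J x))) * hε) |
      (linear_combination (f z (J w)) * hε) | (linear_combination (δ * f z w) * hε) | (linear_combination (-(δ * f z w)) * hε)

end CfsgLib.Sp4Pair
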