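import Cfsg.Agent.Lib.Sp4Pair.Frame

/-!
Root elements of a totally isotropic plane, written by symmetric tensors, and two families of them whose
planes meet in a point.
-/

set_option autoImplicit false
set_option linter.unusedSectionVars false
set_option linter.unusedSimpArgs false

namespace CfsgLib.Sp4Pair

open Matrix CfsgLib.GeomClasses CfsgLib.GeomClasses.SympRoot

variable {ι : Type} [Fintype ι] [DecidableEq ι] {F : Type*} [Field F] {f : (ι → F) → (ι → F) → F}

/-- The element of the plane of the orthogonal vectors `e`, `p` with tensor `α e² + 2 β e p + γ p²`. -/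
noncomputable def qt (f : (ι → F) → (ι → F) → F) (e p : ι → F) (α β γ : F) : GL ι F :=
  formTv f e α * root f p (β • e) γ

variable (hf : Cfsg.Geo.IsSymplecticForm f)
include hf

theorem qt_mulVec {e p : ι → F} (h : f e p = 0) (α β γ : F) (z : ι → F) :
    (qt f e p α β γ : Matrix ι ι F) *ᵥ z =
      z + (α * f z e + β * f z p) • e + (β * f z e + γ * f z p) • p := by
  have h' : f p e = 0 := by rw [hf.skew, h, neg_zero]
  rw [qt, gl_mul_mulVec, root_mulVec hf (by rw [Symp.smul_right hf, h', mul_zero]), Symp.formTv_mulVec hf]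
  simp only [Symp.add_left hf, Symp.smul_left hf, Symp.smul_right hf, hf.alternating, h', mul_zero, add_zero]
  module

theorem qt_mul {e p : ι → F} (h : f e p = 0) (α β γ α' β' γ' : F) :
    qt f e p α β γ * qt f e p α' β' γ' = qt f e p (α + α') (β + β') (γ + γ') := by
  have h' : f p e = 0 := by rw [hf.skew, h, neg_zero]
  refine gl_ext fun z => ?_
  simp only [gl_mul_mulVec, qt_mulVec hf h, Symp.add_left hf, Symp.smul_left hf, hf.alternating, h, h',
    mul_zero, add_zero]
  module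

theorem qt_inv {e p : ι → F} (h : f e p = 0) (α β γ : F) :
    (qt f e p α β γ)⁻¹ = qt f e p (-α) (-β) (-γ) := by
  refine inv_eq_of_mul_eq_one_right ?_
  rw [qt_mul hf h, add_neg_cancel, add_neg_cancel, add_neg_cancel]
  refine gl_ext fun z => ?_
  simp [qt_mulVec hf h]

theorem qt_diag {e p : ι → F} (h : f e p = 0) (α γ : F) : qt f e p α 0 γ = formTv f e α * formTv f p γ := by
  refine gl_ext fun z => ?_
  have h' : f p e = 0 := by rw [hf.skew, h, neg_zero]
  simp only [qt_mulVec hf h, gl_mul_mulVec, Symp.formTv_mulVec hf, Symp.add_left hf, Symp.smul_left hf, h',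
    mul_zero, add_zero]
  module

theorem qt_conj {g : GL ι F} (hg : Symp.IsIsometry f g) (e p : ι → F) (α β γ : F) :
    g * qt f e p α β γ * g⁻¹ = qt f ((g : Matrix ι ι F) *ᵥ e) ((g : Matrix ι ι F) *ᵥ p) α β γ := by
  rw [qt, qt, ← mulVec_smul, ← root_conj hf hg, ← Symp.conj_formTv hf hg]
  group

/-- Change of basis of the plane. -/
theorem qt_basis {x y e p : ι → F} (h : f x y = 0) (a b c d : F) (he : e = a • x + b • y) (hp : p = c • x + d • y)
    (α β γ : F) :
    qt f e p α β γ = qt f x y (α * a * a + 2 * β * a * c + γ * c * c)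
      (α * a * b + β * (a * d + b * c) + γ * c * d) (α * b * b + 2 * β * b * d + γ * d * d) := by
  have h' : f y x = 0 := by rw [hf.skew, h, neg_zero]
  have hep : f e p = 0 := by
    simp [he, hp, Symp.add_left hf, Symp.add_right hf, Symp.smul_left hf, Symp.smul_right hf, h, h', hf.alternating]
  refine gl_ext fun z => ?_
  rw [qt_mulVec hf h, qt_mulVec hf hep, he, hp]
  simp only [Symp.add_right hf, Symp.smul_right hf]
  match_scalars <;> ring

variable {H : Subgroup (GL ι F)}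

/-- A cross family and an element fixing its centre. -/
theorem meet_cross {p e : ι → F} (hpe : f p e = 0) {c : F}
    (hA : ∀ t : F, root f p (t • e) (c * t) ∈ H) {g : GL ι F} (hg : g ∈ H) (hgi : Symp.IsIsometry f g)
    (hgp : (g : Matrix ι ι F) *ᵥ p = p) :
    formTv f p (2 * f e ((g : Matrix ι ι F) *ᵥ e)) ∈ H := by
  set w := (g : Matrix ι ι F) *ᵥ e with hw
  have hpw : f p w = 0 := by rw [← hgp, hw, hgi, hpe]
  have hC : ∀ s : F, root f p (s • (w - e)) (-(s * s * f e w)) ∈ H := fun s => by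
    have h := H.mul_mem (H.mul_mem (H.mul_mem hg (hA s)) (H.inv_mem hg)) (hA (-s))
    rw [root_conj hf hgi, hgp, mulVec_smul, ← hw, root_mul hf (by rw [Symp.smul_right hf, hpw, mul_zero])
      (by rw [Symp.smul_right hf, hpe, mul_zero])] at h
    convert h using 2
    · module
    · rw [Symp.smul_left hf, Symp.smul_right hf]; ring
  have hperp : ∀ s : F, f p (s • (w - e)) = 0 := fun s => by
    rw [Symp.smul_right hf, Symp.sub_right hf, hpw, hpe, sub_zero, mul_zero]
  have h := H.mul_mem (H.mul_mem (hC 1) (hC 1)) (H.inv_mem (hC 2))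
  rw [root_inv hf (hperp 2), ← neg_smul, root_mul hf (hperp 1) (hperp 1), ← add_smul,
    root_mul hf (hperp _) (hperp _), ← add_smul] at h
  rw [show (1 : F) + 1 + -2 = 0 by ring, zero_smul, root_zero hf] at h
  convert h using 2
  simp only [Symp.smul_left hf, Symp.smul_right hf, hf.alternating]
  ring

/-- Two diagonal families in normal position. -/
theorem meet_diag {p e e' : ι → F} (hpe : f p e = 0) (hpe' : f p e' = 0) (he : f e e' = 1) {a b d : F}
    (hA : ∀ t : F, formTv f e t * formTv f p (a * t) ∈ H) (hB : ∀ t : F, formTv f e' t * formTv f p (b * t) ∈ H)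
    (hd : d ≠ 0) : formTv f p (a * (1 - d * d)) ∈ H := by
  have hep : f e p = 0 := by rw [hf.skew, hpe, neg_zero]
  have he'p : f e' p = 0 := by rw [hf.skew, hpe', neg_zero]
  have he'e : f e' e = -1 := by rw [hf.skew, he]
  let A : F → GL ι F := fun t => formTv f e t * formTv f p (a * t)
  let B : F → GL ι F := fun t => formTv f e' t * formTv f p (b * t)
  have hiA : ∀ t, Symp.IsIsometry f (A t) := fun t =>
    Symp.isometry_mul (Symp.formTv_isometry hf _ _) (Symp.formTv_isometry hf _ _)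
  have hiB : ∀ t, Symp.IsIsometry f (B t) := fun t =>
    Symp.isometry_mul (Symp.formTv_isometry hf _ _) (Symp.formTv_isometry hf _ _)
  have key : ∀ t : F, t ≠ 0 → ((A t * B (1 / t) * A t : GL ι F) : Matrix ι ι F) *ᵥ e = (1 / t) • e' ∧
      ((A t * B (1 / t) * A t : GL ι F) : Matrix ι ι F) *ᵥ e' = (-t) • e ∧
      ((A t * B (1 / t) * A t : GL ι F) : Matrix ι ι F) *ᵥ p = p := fun t ht => by
    refine ⟨?_, ?_, ?_⟩ <;>
      simp only [A, B, gl_mul_mulVec, Symp.formTv_mulVec hf, Symp.add_left hf, Symp.smul_left hf, hf.alternating,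
        hep, he'p, hpe, hpe', he, he'e, mul_zero, zero_mul, add_zero, zero_add, zero_smul, mul_one] <;>
      (match_scalars <;> field_simp <;> ring)
  set h := A d * B (1 / d) * A d * (A (-1) * B (1 / -1) * A (-1)) with hh
  have hhH : h ∈ H := H.mul_mem (H.mul_mem (H.mul_mem (hA _) (hB _)) (hA _))
    (H.mul_mem (H.mul_mem (hA _) (hB _)) (hA _))
  have hhi : Symp.IsIsometry f h := Symp.isometry_mul (Symp.isometry_mul (Symp.isometry_mul (hiA _) (hiB _)) (hiA _))
    (Symp.isometry_mul (Symp.isometry_mul (hiA _) (hiB _)) (hiA _))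
  obtain ⟨k1, k2, k3⟩ := key (-1) (neg_ne_zero.2 one_ne_zero)
  obtain ⟨l1, l2, l3⟩ := key d hd
  have hhe : (h : Matrix ι ι F) *ᵥ e = d • e := by
    rw [hh, gl_mul_mulVec, k1, mulVec_smul, l2, smul_smul]
    congr 1
    ring
  have hhp : (h : Matrix ι ι F) *ᵥ p = p := by rw [hh, gl_mul_mulVec, k3, l3]
  have h1 := H.mul_mem (H.inv_mem (hA (d * d))) (H.mul_mem (H.mul_mem hhH (hA 1)) (H.inv_mem hhH))
  convert h1 using 1
  rw [conj_mul.symm, Symp.conj_formTv hf hhi, Symp.conj_formTv hf hhi, hhe, hhp, Symp.formTv_smul hf, mul_one,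
    _root_.mul_inv_rev, mul_assoc, inv_mul_cancel_left, Symp.formTv_inv hf, Symp.formTv_mul hf]
  congr 1
  ring

/-- Two families of root elements of planes which meet in the point of `p`. -/
theorem meet_qt (h2 : (2 : F) ≠ 0) {d : F} (hd : d ≠ 0) (hd1 : d * d ≠ 1) {p e e' : ι → F} (hpe : f p e = 0)
    (hpe' : f p e' = 0) (he : f e e' ≠ 0) {α β γ α' β' γ' : F}
    (hA : ∀ t : F, qt f e p (t * α) (t * β) (t * γ) ∈ H) (hB : ∀ t : F, qt f e' p (t * α') (t * β') (t * γ') ∈ H)
    (hdA : α * γ - β * β ≠ 0) (hdB : α' * γ' - β' * β' ≠ 0) : ∃ k, k ≠ 0 ∧ formTv f p k ∈ H := by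
  have hep : f e p = 0 := by rw [hf.skew, hpe, neg_zero]
  have he'p : f e' p = 0 := by rw [hf.skew, hpe', neg_zero]
  have cross : ∀ (x y : ι → F), f x p = 0 → f y p = 0 → f x y ≠ 0 → ∀ a b c a' b' c' : F,
      (∀ t : F, qt f x p (t * a) (t * b) (t * c) ∈ H) → (∀ t : F, qt f y p (t * a') (t * b') (t * c') ∈ H) →
      a = 0 → a * c - b * b ≠ 0 → a' * c' - b' * b' ≠ 0 → ∃ k, k ≠ 0 ∧ formTv f p k ∈ H := by
    intro x y hxp hyp hxy a b c a' b' c' hX hY ha hdX hdY
    have hb : b ≠ 0 := fun h => hdX (by rw [ha, h]; ring)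
    have hpx : f p x = 0 := by rw [hf.skew, hxp, neg_zero]
    have hX' : ∀ t : F, root f p (t • x) (c / b * t) ∈ H := fun t => by
      have h := hX (t / b)
      rw [ha, mul_zero] at h
      convert h using 1
      refine gl_ext fun z => ?_
      rw [qt_mulVec hf hxp, root_mulVec hf (by rw [Symp.smul_right hf, hpx, mul_zero]), Symp.smul_right hf]
      match_scalars <;> field_simp <;> ring
    have hpy : f p y = 0 := by rw [hf.skew, hyp, neg_zero]
    by_cases ha' : a' = 0
    · have hb' : b' ≠ 0 := fun h => hdY (by rw [ha', h]; ring)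
      have hY1 := hY 1
      have hi : Symp.IsIsometry f (qt f y p (1 * a') (1 * b') (1 * c')) :=
        Symp.isometry_mul (Symp.formTv_isometry hf _ _) fun u v => by
          simp only [root, gl_mul_mulVec]
          rw [Symp.formTv_isometry hf, Symp.formTv_isometry hf, Symp.formTv_isometry hf, Symp.formTv_isometry hf]
      have h := H.mul_mem (H.mul_mem (H.mul_mem hY1 (hX' 1)) (H.inv_mem hY1)) (H.inv_mem (hX' 1))
      refine ⟨2 * (b' * f x y), mul_ne_zero h2 (mul_ne_zero hb' hxy), ?_⟩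
      convert h using 1
      rw [root_conj hf hi, root_inv hf (by rw [Symp.smul_right hf, hpx, mul_zero]), qt_mulVec hf hyp,
        qt_mulVec hf hyp, hf.alternating, hpy, ha', one_smul, hxp]
      have hperp : f p (x + (1 * 0 * f x y + 1 * b' * 0) • y + (1 * b' * f x y + 1 * c' * 0) • p) = 0 := by
        simp [Symp.add_right hf, Symp.smul_right hf, hpx, hpy, hf.alternating]
      rw [show p + (1 * 0 * 0 + 1 * b' * 0) • y + (1 * b' * 0 + 1 * c' * 0) • p = p by module,
        root_mul hf hperp (by rw [Symp.neg_right hf, hpx, neg_zero])]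
      refine gl_ext fun z => ?_
      rw [root_mulVec hf (by rw [Symp.add_right hf, hperp, Symp.neg_right hf, hpx]; simp), Symp.formTv_mulVec hf]
      simp only [Symp.add_right hf, Symp.smul_right hf, Symp.neg_right hf, Symp.neg_left hf, Symp.add_left hf,
        Symp.smul_left hf, hf.alternating, hpx, hxp, hyp, hpy]
      match_scalars <;> ring
    · have hY1 := hY 1
      have hi : Symp.IsIsometry f (qt f y p (1 * a') (1 * b') (1 * c')) :=
        Symp.isometry_mul (Symp.formTv_isometry hf _ _) fun u v => by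
          simp only [root, gl_mul_mulVec]
          rw [Symp.formTv_isometry hf, Symp.formTv_isometry hf, Symp.formTv_isometry hf, Symp.formTv_isometry hf]
      refine ⟨_, ?_, meet_cross hf hpx hX' hY1 hi (by
        rw [qt_mulVec hf hyp, hf.alternating, hpy]; module)⟩
      rw [qt_mulVec hf hyp, Symp.add_right hf, Symp.add_right hf, Symp.smul_right hf, Symp.smul_right hf,
        hf.alternating, hxp]
      simp only [one_mul, mul_zero, add_zero, zero_add]
      exact mul_ne_zero h2 (mul_ne_zero (mul_ne_zero ha' hxy) hxy)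
  by_cases hα : α = 0
  · exact cross e e' hep he'p he α β γ α' β' γ' hA hB hα hdA hdB
  by_cases hα' : α' = 0
  · exact cross e' e he'p hep (Symp.ne_zero_comm hf he) α' β' γ' α β γ hB hA hα' hdB hdA
  set s := (f e e')⁻¹ with hs
  have hs0 : s ≠ 0 := inv_ne_zero he
  set u := e + (β / α) • p with hu
  set v := s • (e' + (β' / α') • p) with hv
  have hpu : f p u = 0 := by rw [hu, Symp.add_right hf, Symp.smul_right hf, hpe, hf.alternating]; ring
  have hpv : f p v = 0 := by rw [hv, Symp.smul_right hf, Symp.add_right hf, Symp.smul_right hf, hpe', hf.alternating]; ring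
  have huv : f u v = 1 := by
    simp only [hu, hv, Symp.add_left hf, Symp.add_right hf, Symp.smul_left hf, Symp.smul_right hf, hep, hpe',
      hf.alternating, mul_zero, add_zero]
    exact inv_mul_cancel₀ he
  have hU : ∀ t : F, formTv f u t * formTv f p ((γ - β * β / α) / α * t) ∈ H := fun t => by
    rw [← qt_diag hf (by rw [hf.skew, hpu, neg_zero]), qt_basis hf hep 1 (β / α) 0 1 (by rw [hu, one_smul]) (by module)]
    convert hA (t / α) using 2 <;> field_simp <;> ring
  have hV : ∀ t : F, formTv f v t * formTv f p ((γ' - β' * β' / α') / α' * (s * s) * t) ∈ H := fun t => by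
    rw [← qt_diag hf (by rw [hf.skew, hpv, neg_zero]), qt_basis hf he'p s (s * (β' / α')) 0 1
      (by rw [hv, smul_add, smul_smul]) (by module)]
    convert hB (s * s * t / α') using 2 <;> field_simp <;> ring
  refine ⟨_, ?_, meet_diag hf hpu hpv huv hU hV hd⟩
  refine mul_ne_zero (div_ne_zero ?_ hα) (sub_ne_zero.2 (Ne.symm hd1))
  rw [sub_ne_zero]
  intro hh
  exact hdA (by rw [hh]; field_simp; ring)

/-- Two pairs of diagonal families whose planes meet and are not orthogonal. -/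
theorem meet_pairs (h2 : (2 : F) ≠ 0) {d : F} (hd : d ≠ 0) (hd1 : d * d ≠ 1) {a₁ a₂ b₁ b₂ p : ι → F}
    (ha : f a₁ a₂ = 0) (hb : f b₁ b₂ = 0) {c₁ c₂ d₁ d₂ : F} (hc : c₁ * c₂ ≠ 0) (hdd : d₁ * d₂ ≠ 0)
    (hA : ∀ t : F, qt f a₁ a₂ (t * c₁) 0 (t * c₂) ∈ H) (hB : ∀ t : F, qt f b₁ b₂ (t * d₁) 0 (t * d₂) ∈ H)
    (hp : p ≠ 0) {μ ν μ' ν' : F} (hpa : p = μ • a₁ + ν • a₂) (hpb : p = μ' • b₁ + ν' • b₂)
    (hne : ¬ (f a₁ b₁ = 0 ∧ f a₁ b₂ = 0 ∧ f a₂ b₁ = 0 ∧ f a₂ b₂ = 0)) :
    ∃ k, k ≠ 0 ∧ formTv f p k ∈ H := by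
  have conv : ∀ (a₁ a₂ : ι → F) (c₁ c₂ μ ν : F), f a₁ a₂ = 0 → c₁ * c₂ ≠ 0 →
      (∀ t : F, qt f a₁ a₂ (t * c₁) 0 (t * c₂) ∈ H) → p = μ • a₁ + ν • a₂ →
      ∃ (e : ι → F) (α β γ x₁ y₁ x₂ y₂ : F), f p e = 0 ∧ α * γ - β * β ≠ 0 ∧ a₁ = x₁ • e + y₁ • p ∧ a₂ = x₂ • e + y₂ • p ∧
        ∀ t : F, qt f e p (t * α) (t * β) (t * γ) ∈ H := by
    intro a₁ a₂ c₁ c₂ μ ν ha hc hA hpa
    have ha' : f a₂ a₁ = 0 := by rw [hf.skew, ha, neg_zero]
    by_cases hμ : μ = 0
    · have hν : ν ≠ 0 := fun h => hp (by rw [hpa, hμ, h]; module)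
      have hep : f a₁ p = 0 := by
        rw [hpa, Symp.add_right hf, Symp.smul_right hf, Symp.smul_right hf, ha, hf.alternating]; ring
      have e1 : a₁ = (1 : F) • a₁ + (0 : F) • p := by module
      have e2 : a₂ = (0 : F) • a₁ + ν⁻¹ • p := by
        simp only [hpa, hμ, zero_smul, zero_add, smul_smul, inv_mul_cancel₀ hν, one_smul]
      refine ⟨a₁, c₁, 0, c₂ * ν⁻¹ * ν⁻¹, 1, 0, 0, ν⁻¹, by rw [hf.skew, hep, neg_zero], ?_, e1, e2, fun t => ?_⟩
      · rw [mul_zero, sub_zero, ← mul_assoc, ← mul_assoc]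
        exact mul_ne_zero (mul_ne_zero hc (inv_ne_zero hν)) (inv_ne_zero hν)
      · have h := hA t
        rw [qt_basis hf hep 1 0 0 ν⁻¹ e1 e2] at h
        convert h using 2 <;> ring
    · have hep : f a₂ p = 0 := by
        rw [hpa, Symp.add_right hf, Symp.smul_right hf, Symp.smul_right hf, ha', hf.alternating]; ring
      have e1 : a₁ = (-(ν / μ)) • a₂ + μ⁻¹ • p := by
        rw [hpa]
        match_scalars <;> field_simp <;> ring
      have e2 : a₂ = (1 : F) • a₂ + (0 : F) • p := by module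
      refine ⟨a₂, c₁ * (ν / μ) * (ν / μ) + c₂, -(c₁ * (ν / μ) * μ⁻¹), c₁ * μ⁻¹ * μ⁻¹, _, _, _, _,
        by rw [hf.skew, hep, neg_zero], ?_, e1, e2, fun t => ?_⟩
      · rw [show (c₁ * (ν / μ) * (ν / μ) + c₂) * (c₁ * μ⁻¹ * μ⁻¹) -
          -(c₁ * (ν / μ) * μ⁻¹) * -(c₁ * (ν / μ) * μ⁻¹) = c₁ * c₂ * μ⁻¹ * μ⁻¹ by ring]
        exact mul_ne_zero (mul_ne_zero hc (inv_ne_zero hμ)) (inv_ne_zero hμ)
      · have h := hA t
        rw [qt_basis hf hep (-(ν / μ)) μ⁻¹ 1 0 e1 e2] at h
        convert h using 2 <;> ring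
  obtain ⟨e, α, β, γ, x₁, y₁, x₂, y₂, hpe, hdA, e1, e2, hA'⟩ := conv a₁ a₂ c₁ c₂ μ ν ha hc hA hpa
  obtain ⟨e', α', β', γ', x₁', y₁', x₂', y₂', hpe', hdB, e1', e2', hB'⟩ := conv b₁ b₂ d₁ d₂ μ' ν' hb hdd hB hpb
  refine meet_qt hf h2 hd hd1 hpe hpe' (fun h0 => hne ?_) hA' hB' hdA hdB
  have hep : f e p = 0 := by rw [hf.skew, hpe, neg_zero]
  rw [e1, e2, e1', e2']
  simp [Symp.add_left hf, Symp.add_right hf, Symp.smul_left hf, Symp.smul_right hf, h0, hep, hpe', hf.alternating]

end CfsgLib.Sp4Pair
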